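import Groth.Agent.Lib.Comod.Basic
import Mathlib.Algebra.Module.Shrink
import Mathlib.LinearAlgebra.Dimension.Free
import Mathlib.LinearAlgebra.Projection

/-!
Linearly reductive groups: every comodule (of any dimension, in any universe) is semisimple, and the
Reynolds operator.
-/

universe u v w w'

open TensorProduct Groth.Agent.Lib.Comod.Basic

set_option linter.style.haveILetI false

namespace Groth.Agent.Lib.Comod.Reynolds

noncomputable section

variable {k : Type u} [Field k] {A : Type v} [CommRing A] [Bialgebra k A]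
variable {V : Type w} [AddCommGroup V] [Module k V] [HopfRep.Comod k A V]
variable {V' : Type w'} [AddCommGroup V'] [Module k V'] [HopfRep.Comod k A V']

theorem algebraMap_injective : Function.Injective (algebraMap k A) := fun a b h => by
  simpa using congrArg (Bialgebra.counitAlgHom k A) h

variable (A) in
include A in
theorem small_of_finite (W : Type w) [AddCommGroup W] [Module k W] [Module.Finite k W] :
    Small.{v} W :=
  haveI : Small.{v} k := small_of_injective (algebraMap_injective (k := k) (A := A))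
  small_map (Module.Free.chooseBasis k W).equivFun.toEquiv

/-- A finite-dimensional subcomodule is semisimple. -/
theorem exists_complement_fg (hG : HopfRep.IsLinearlyReductive k A) {U W : Submodule k V}
    (hU : HopfRep.IsSubcomod (k := k) (A := A) U) (hW : HopfRep.IsSubcomod (k := k) (A := A) W)
    (hWfg : W.FG) (hUW : U ≤ W) :
    ∃ S : Submodule k V, HopfRep.IsSubcomod (k := k) (A := A) S ∧ U ⊓ S = ⊥ ∧ U ⊔ S = W := by
  haveI : Module.Finite k W := Module.Finite.iff_fg.2 hWfg
  haveI : Small.{v} W := small_of_finite (k := k) A W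
  let e : W ≃ₗ[k] Shrink.{v} W := (Shrink.linearEquiv k W).symm
  letI := subComod W hW
  letI : HopfRep.Comod k A (Shrink.{v} W) := equivComod e
  haveI : Module.Finite k (Shrink.{v} W) := Module.Finite.equiv e
  let j : Shrink.{v} W →ₗ[k] V := W.subtype ∘ₗ e.symm.toLinearMap
  have hj : Hoch.IsComodHom A j := by
    refine (isComodHom_iff j).2 fun φ x => ?_
    obtain ⟨x, rfl⟩ := e.surjective x
    have h := map_dact (isComodHom_equiv (A := A) e) φ x
    simp only [LinearEquiv.coe_coe] at h
    simp only [j, LinearMap.comp_apply, LinearEquiv.coe_coe]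
    rw [← h, e.symm_apply_apply, e.symm_apply_apply, map_dact (isComodHom_subtype hW)]
  have hjinj : Function.Injective j := W.injective_subtype.comp e.symm.injective
  have hjrange : LinearMap.range j = W := by
    simp [j, LinearMap.range_comp]
  obtain ⟨S, hS, hc⟩ := hG (Shrink.{v} W) inferInstance (U.comap j) (isSubcomod_comap hj hU)
  refine ⟨S.map j, isSubcomod_map hj hS, ?_, ?_⟩
  · have : (U.comap j).map j = U := Submodule.map_comap_eq_self (hUW.trans hjrange.ge)
    rw [← this, ← Submodule.map_inf j hjinj, hc.inf_eq_bot, Submodule.map_bot]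
  · have : (U.comap j).map j = U := Submodule.map_comap_eq_self (hUW.trans hjrange.ge)
    rw [← this, ← Submodule.map_sup, hc.sup_eq_top, Submodule.map_top, hjrange]

/-- Every comodule of a linearly reductive group is semisimple. -/
theorem exists_isCompl (hG : HopfRep.IsLinearlyReductive k A) {U : Submodule k V}
    (hU : HopfRep.IsSubcomod (k := k) (A := A) U) :
    ∃ S : Submodule k V, HopfRep.IsSubcomod (k := k) (A := A) S ∧ IsCompl U S := by
  let 𝒮 : Set (Submodule k V) :=
    {S | HopfRep.IsSubcomod (k := k) (A := A) S ∧ Disjoint U S}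
  obtain ⟨S, -, hmax⟩ := zorn_le_nonempty₀ 𝒮 (fun c hc hch y hy =>
    ⟨sSup c, ⟨isSubcomod_sSup fun W hW => (hc hW).1,
      (DirectedOn.disjoint_sSup_right hch.directedOn).2 fun W hW => (hc hW).2⟩,
      fun W hW => le_sSup hW⟩) ⊥ ⟨isSubcomod_bot, disjoint_bot_right⟩
  obtain ⟨hS, hdis⟩ := hmax.prop
  refine ⟨S, hS, hdis, codisjoint_iff.2 ?_⟩
  by_contra hne
  obtain ⟨x, -, hx⟩ := SetLike.exists_of_lt (lt_top_iff_ne_top.2 hne)
  have hUS : HopfRep.IsSubcomod (k := k) (A := A) (U ⊔ S) := isSubcomod_sup hU hS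
  obtain ⟨T, hT, hTd, hTs⟩ := exists_complement_fg hG
    (isSubcomod_inf hUS (isSubcomod_cyclic x)) (isSubcomod_cyclic x) (cyclic_fg V x) inf_le_right
  have hTle : T ≤ cyclic (k := k) (A := A) V x := hTs ▸ le_sup_right
  have hTdis : Disjoint (U ⊔ S) T := by
    rw [disjoint_iff]
    refine le_bot_iff.1 (le_trans ?_ hTd.le)
    exact le_inf (le_inf inf_le_left (inf_le_right.trans hTle)) inf_le_right
  have hmem : S ⊔ T ∈ 𝒮 := ⟨isSubcomod_sup hS hT, hdis.disjoint_sup_right_of_disjoint_sup_left hTdis⟩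
  have hTS : T ≤ S := le_sup_right.trans (hmax.le_of_ge hmem le_sup_left)
  have : cyclic (k := k) (A := A) V x ≤ U ⊔ S := by
    rw [← hTs]
    exact sup_le inf_le_left (hTS.trans le_sup_right)
  exact hx (this (self_mem_cyclic V x))

theorem mem_fixedPts_iff {v : V} :
    v ∈ HopfRep.fixedPts k A V ↔ ∀ φ : A →ₗ[k] k, dact V φ v = φ 1 • v := by
  change HopfRep.Comod.coact (k := k) (A := A) v = v ⊗ₜ[k] (1 : A) ↔ _
  refine ⟨fun h φ => by rw [dact_apply, h, contract_tmul], fun h => ext_contract fun φ => ?_⟩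
  rw [contract_tmul]
  exact h φ

theorem mem_eigenspace_iff {a : A} {v : V} :
    v ∈ HopfRep.eigenspace k A V a ↔ ∀ φ : A →ₗ[k] k, dact V φ v = φ a • v := by
  change HopfRep.Comod.coact (k := k) (A := A) v = v ⊗ₜ[k] a ↔ _
  refine ⟨fun h φ => by rw [dact_apply, h, contract_tmul], fun h => ext_contract fun φ => ?_⟩
  rw [contract_tmul]
  exact h φ

theorem isSubcomod_fixedPts : HopfRep.IsSubcomod (k := k) (A := A) (HopfRep.fixedPts k A V) :=
  (isSubcomod_iff _).2 fun φ w hw => by
    rw [mem_fixedPts_iff.1 hw φ]; exact Submodule.smul_mem _ _ hw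

theorem map_mem_fixedPts {g : V →ₗ[k] V'} (hg : Hoch.IsComodHom A g) {v : V}
    (hv : v ∈ HopfRep.fixedPts k A V) : g v ∈ HopfRep.fixedPts k A V' :=
  mem_fixedPts_iff.2 fun φ => by rw [← map_dact hg, mem_fixedPts_iff.1 hv φ, map_smul]

/-- `E` is a Reynolds operator on the comodule `V`. -/
def IsReynolds (E : V →ₗ[k] V) : Prop :=
  Hoch.IsComodHom A E ∧ E ∘ₗ E = E ∧ ∀ x : V, E x = x ↔ x ∈ HopfRep.fixedPts k A V

theorem IsReynolds.mem {E : V →ₗ[k] V} (hE : IsReynolds (A := A) E) (x : V) :
    E x ∈ HopfRep.fixedPts k A V :=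
  (hE.2.2 _).1 (LinearMap.congr_fun hE.2.1 x)

theorem IsReynolds.apply_of_mem {E : V →ₗ[k] V} (hE : IsReynolds (A := A) E) {x : V}
    (hx : x ∈ HopfRep.fixedPts k A V) : E x = x :=
  (hE.2.2 _).2 hx

variable (V) in
theorem exists_isReynolds (hG : HopfRep.IsLinearlyReductive k A) :
    ∃ E : V →ₗ[k] V, IsReynolds (A := A) E := by
  obtain ⟨S, hS, hc⟩ := exists_isCompl hG (isSubcomod_fixedPts (k := k) (A := A) (V := V))
  refine ⟨(HopfRep.fixedPts k A V).subtype ∘ₗ Submodule.projectionOnto _ _ hc,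
    (isComodHom_iff _).2 fun φ x => ?_, ?_, fun x => ?_⟩
  · obtain ⟨a, ha, b, hb, rfl⟩ := Submodule.mem_sup.1 (hc.sup_eq_top ▸ Submodule.mem_top : x ∈ _ ⊔ _)
    have h1 := dact_mem isSubcomod_fixedPts φ ha
    have h2 := dact_mem hS φ hb
    simp only [LinearMap.comp_apply, map_add, Submodule.subtype_apply]
    rw [Submodule.projectionOnto_apply_left hc ⟨a, ha⟩,
      Submodule.projectionOnto_apply_left hc ⟨_, h1⟩,
      Submodule.projectionOnto_apply_right hc ⟨b, hb⟩,
      Submodule.projectionOnto_apply_right hc ⟨_, h2⟩]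
    simp
  · refine LinearMap.ext fun x => ?_
    simp
  · simp only [LinearMap.comp_apply, Submodule.subtype_apply]
    refine ⟨fun h => h ▸ Subtype.mem _, fun h => ?_⟩
    rw [Submodule.projectionOnto_apply_left hc ⟨x, h⟩]

theorem IsReynolds.natural (hG : HopfRep.IsLinearlyReductive k A)
    {E : V →ₗ[k] V} (hE : IsReynolds (A := A) E) {E' : V' →ₗ[k] V'} (hE' : IsReynolds (A := A) E')
    {g : V →ₗ[k] V'} (hg : Hoch.IsComodHom A g) : E' ∘ₗ g = g ∘ₗ E := by
  set f : V →ₗ[k] V' := E' ∘ₗ g ∘ₗ (LinearMap.id - E) with hf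
  have hfh : Hoch.IsComodHom A f :=
    isComodHom_comp (isComodHom_comp (isComodHom_sub isComodHom_id hE.1) hg) hE'.1
  obtain ⟨S, hS, hc⟩ := exists_isCompl hG (isSubcomod_ker hfh)
  have key : ∀ s ∈ S, f s = 0 := by
    intro s hs
    have hsf : s ∈ HopfRep.fixedPts k A V := by
      refine mem_fixedPts_iff.2 fun φ => sub_eq_zero.1 ?_
      have h1 : dact V φ s - φ 1 • s ∈ S := Submodule.sub_mem _ (dact_mem hS φ hs) (S.smul_mem _ hs)
      have h2 : dact V φ s - φ 1 • s ∈ LinearMap.ker f := by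
        have hfs : f s ∈ HopfRep.fixedPts k A V' := hE'.mem _
        rw [LinearMap.mem_ker, map_sub, map_dact hfh, mem_fixedPts_iff.1 hfs φ, map_smul, sub_self]
      exact (Submodule.disjoint_def.1 hc.disjoint) _ h2 h1
    simp [hf, hE.apply_of_mem hsf]
  have hf0 : f = 0 := by
    rw [← LinearMap.ker_eq_top, eq_top_iff, ← hc.sup_eq_top]
    exact sup_le le_rfl fun s hs => key s hs
  refine LinearMap.ext fun x => ?_
  have h := LinearMap.congr_fun hf0 x
  simp only [hf, LinearMap.comp_apply, LinearMap.sub_apply, LinearMap.id_apply, map_sub,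
    LinearMap.zero_apply] at h
  rw [hE'.apply_of_mem (map_mem_fixedPts hg (hE.mem x))] at h
  exact sub_eq_zero.1 h

theorem IsReynolds.natural_apply (hG : HopfRep.IsLinearlyReductive k A)
    {E : V →ₗ[k] V} (hE : IsReynolds (A := A) E) {E' : V' →ₗ[k] V'} (hE' : IsReynolds (A := A) E')
    {g : V →ₗ[k] V'} (hg : Hoch.IsComodHom A g) (x : V) : E' (g x) = g (E x) :=
  LinearMap.congr_fun (hE.natural hG hE' hg) x

theorem IsReynolds.unique (hG : HopfRep.IsLinearlyReductive k A)
    {E F : V →ₗ[k] V} (hE : IsReynolds (A := A) E) (hF : IsReynolds (A := A) F) : E = F := by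
  simpa using (hF.natural hG hE isComodHom_id)

/-- The Reynolds operator maps every subcomodule into itself. -/
theorem IsReynolds.map_mem (hG : HopfRep.IsLinearlyReductive k A)
    {E : V →ₗ[k] V} (hE : IsReynolds (A := A) E) {W : Submodule k V}
    (hW : HopfRep.IsSubcomod (k := k) (A := A) W) {x : V} (hx : x ∈ W) : E x ∈ W := by
  letI := subComod W hW
  obtain ⟨F, hF⟩ := exists_isReynolds W hG
  have h := hF.natural_apply hG hE (isComodHom_subtype hW) ⟨x, hx⟩
  simp only [Submodule.subtype_apply] at h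
  rw [h]
  exact Subtype.mem _

/-- Invariants are exact: a surjective comodule map is surjective on invariants. -/
theorem exists_fixedPts_lift (hG : HopfRep.IsLinearlyReductive k A) {g : V →ₗ[k] V'}
    (hg : Hoch.IsComodHom A g) {w : V'} (hw : w ∈ HopfRep.fixedPts k A V')
    (hwr : w ∈ LinearMap.range g) : ∃ v ∈ HopfRep.fixedPts k A V, g v = w := by
  obtain ⟨v, rfl⟩ := hwr
  obtain ⟨E, hE⟩ := exists_isReynolds (A := A) V hG
  obtain ⟨E', hE'⟩ := exists_isReynolds (A := A) V' hG
  exact ⟨E v, hE.mem v, by rw [← hE.natural_apply hG hE' hg, hE'.apply_of_mem hw]⟩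

end

end Groth.Agent.Lib.Comod.Reynolds
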