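import Groth.Prelude.Def_Hoch
import Mathlib.LinearAlgebra.TensorProduct.Basis
import Mathlib.RingTheory.Flat.Basic
import Mathlib.RingTheory.Noetherian.Basic
import Mathlib.LinearAlgebra.Quotient.Basic
import Mathlib.Order.CompactlyGenerated.Basic

/-!
Comodules over a coalgebra which is free as a module: contraction against functionals.

`contract V φ : V ⊗ A → V` and `dact V φ : V → V` (the action of the functional `φ` through the coaction).
Subcomodules are exactly the subspaces stable under all `dact V φ`, and comodule maps are exactly the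
linear maps commuting with all `dact V φ`.
-/

universe u v w w'

open TensorProduct

namespace Groth.Agent.Lib.Comod.Basic

noncomputable section

section Contract

variable {k : Type u} [CommRing k] {A : Type v} [AddCommGroup A] [Module k A]
variable (V : Type w) [AddCommGroup V] [Module k V]
variable {V' : Type w'} [AddCommGroup V'] [Module k V']

/-- `v ⊗ a ↦ φ(a) v`. -/
def contract (φ : A →ₗ[k] k) : V ⊗[k] A →ₗ[k] V :=
  (TensorProduct.rid k V).toLinearMap ∘ₗ φ.lTensor V

@[simp] theorem contract_tmul (φ : A →ₗ[k] k) (v : V) (a : A) :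
    contract V φ (v ⊗ₜ[k] a) = φ a • v := by
  simp [contract]

variable {V}

theorem contract_rTensor (φ : A →ₗ[k] k) (g : V →ₗ[k] V') (x : V ⊗[k] A) :
    contract V' φ (g.rTensor A x) = g (contract V φ x) := by
  induction x using TensorProduct.induction_on with
  | zero => simp
  | tmul v a => simp
  | add x y hx hy => simp [hx, hy]

theorem contract_lTensor {A' : Type w'} [AddCommGroup A'] [Module k A'] (φ : A' →ₗ[k] k)
    (g : A →ₗ[k] A') (x : V ⊗[k] A) :
    contract V φ (g.lTensor V x) = contract V (φ ∘ₗ g) x := by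
  induction x using TensorProduct.induction_on with
  | zero => simp
  | tmul v a => simp
  | add x y hx hy => simp [hx, hy]

theorem equivFinsupp_apply_eq_contract {ι : Type*} [DecidableEq ι] (b : Module.Basis ι k A)
    (x : V ⊗[k] A) (i : ι) :
    TensorProduct.equivFinsuppOfBasisRight b x i = contract V (b.coord i) x := by
  induction x using TensorProduct.induction_on with
  | zero => simp
  | tmul v a => simp
  | add x y hx hy => simp [hx, hy]

theorem eq_sum_contract_tmul {ι : Type*} [DecidableEq ι] (b : Module.Basis ι k A)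
    (x : V ⊗[k] A) :
    x = ∑ i ∈ (TensorProduct.equivFinsuppOfBasisRight b x).support,
      contract V (b.coord i) x ⊗ₜ[k] b i := by
  conv_lhs => rw [← (TensorProduct.equivFinsuppOfBasisRight b).symm_apply_apply x]
  rw [TensorProduct.equivFinsuppOfBasisRight_symm_apply, Finsupp.sum]
  simp [equivFinsupp_apply_eq_contract]

variable [Module.Free k A]

theorem ext_contract {x y : V ⊗[k] A} (h : ∀ φ : A →ₗ[k] k, contract V φ x = contract V φ y) :
    x = y := by
  classical
  let b := Module.Free.chooseBasis k A
  apply (TensorProduct.equivFinsuppOfBasisRight b).injective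
  ext i
  simp [equivFinsupp_apply_eq_contract, h]

theorem mem_range_rTensor_iff (W : Submodule k V) (x : V ⊗[k] A) :
    x ∈ LinearMap.range (W.subtype.rTensor A) ↔ ∀ φ : A →ₗ[k] k, contract V φ x ∈ W := by
  classical
  constructor
  · rintro ⟨y, rfl⟩ φ
    rw [contract_rTensor]
    exact Subtype.mem _
  · intro h
    rw [eq_sum_contract_tmul (Module.Free.chooseBasis k A) x]
    refine Submodule.sum_mem _ fun i _ => ?_
    exact ⟨(⟨_, h _⟩ : W) ⊗ₜ[k] Module.Free.chooseBasis k A i, rfl⟩

theorem subtype_rTensor_injective (W : Submodule k V) :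
    Function.Injective (W.subtype.rTensor A) :=
  Module.Flat.rTensor_preserves_injective_linearMap _ W.injective_subtype

end Contract

section Coalg

variable {k : Type u} [CommRing k] {A : Type v} [AddCommGroup A] [Module k A] [Coalgebra k A]
variable (V : Type w) [AddCommGroup V] [Module k V] [HopfRep.Comod k A V]
variable {V' : Type w'} [AddCommGroup V'] [Module k V'] [HopfRep.Comod k A V']

/-- The endomorphism of a comodule given by a functional on the coalgebra. -/
def dact (φ : A →ₗ[k] k) : V →ₗ[k] V :=
  contract V φ ∘ₗ HopfRep.Comod.coact (k := k) (A := A)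

theorem dact_apply (φ : A →ₗ[k] k) (v : V) :
    dact V φ v = contract V φ (HopfRep.Comod.coact (k := k) (A := A) v) := rfl

/-- Convolution product of functionals. -/
def conv (φ ψ : A →ₗ[k] k) : A →ₗ[k] k :=
  LinearMap.mul' k k ∘ₗ TensorProduct.map φ ψ ∘ₗ CoalgebraStruct.comul (R := k) (A := A)

omit [Coalgebra k A] [HopfRep.Comod k A V] in
theorem contract_contract (φ ψ : A →ₗ[k] k) (y : (V ⊗[k] A) ⊗[k] A) :
    contract V φ (contract (V ⊗[k] A) ψ y) =
      contract V (LinearMap.mul' k k ∘ₗ TensorProduct.map φ ψ) (TensorProduct.assoc k V A A y) := by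
  induction y using TensorProduct.induction_on with
  | zero => simp
  | tmul x c =>
    induction x using TensorProduct.induction_on with
    | zero => simp
    | tmul v a => simp [smul_smul, mul_comm]
    | add x y hx hy =>
      simp only [TensorProduct.add_tmul, map_add, hx, hy]
  | add x y hx hy => simp [hx, hy]

theorem dact_dact (φ ψ : A →ₗ[k] k) (v : V) :
    dact V φ (dact V ψ v) = dact V (conv φ ψ) v := by
  have h := LinearMap.congr_fun (HopfRep.Comod.coassoc (k := k) (A := A) (V := V)) v
  simp only [LinearMap.comp_apply, LinearEquiv.coe_coe] at h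
  simp only [dact_apply]
  rw [← contract_rTensor ψ (HopfRep.Comod.coact (k := k) (A := A)), contract_contract, h,
    contract_lTensor]
  rfl

theorem dact_counit : dact V (CoalgebraStruct.counit (R := k) (A := A)) = LinearMap.id := by
  ext v
  have h := LinearMap.congr_fun (HopfRep.Comod.counit_comp (k := k) (A := A) (V := V)) v
  simp only [LinearMap.comp_apply] at h
  simp [dact, contract, h]

theorem dact_counit_apply (v : V) :
    dact V (CoalgebraStruct.counit (R := k) (A := A)) v = v :=
  LinearMap.congr_fun (dact_counit V) v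

theorem dact_add (φ ψ : A →ₗ[k] k) : dact V (φ + ψ) = dact V φ + dact V ψ := by
  ext v; simp [dact, contract, LinearMap.lTensor_add]

theorem dact_smul (c : k) (φ : A →ₗ[k] k) : dact V (c • φ) = c • dact V φ := by
  ext v; simp [dact, contract, LinearMap.lTensor_smul]

/-- `φ ↦ dact V φ v`, linear in the functional. -/
def dactAt (v : V) : (A →ₗ[k] k) →ₗ[k] V where
  toFun φ := dact V φ v
  map_add' φ ψ := by simp [dact_add]
  map_smul' c φ := by simp [dact_smul]

@[simp] theorem dactAt_apply (v : V) (φ : A →ₗ[k] k) : dactAt V v φ = dact V φ v := rfl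

/-- The subcomodule generated by a vector. -/
def cyclic (v : V) : Submodule k V := LinearMap.range (dactAt (A := A) V v)

theorem self_mem_cyclic (v : V) : v ∈ cyclic (k := k) (A := A) V v :=
  ⟨CoalgebraStruct.counit, by simp [dact_counit]⟩

theorem cyclic_fg [IsNoetherianRing k] (v : V) : (cyclic (k := k) (A := A) V v).FG := by
  obtain ⟨S, hS⟩ := TensorProduct.exists_finset (HopfRep.Comod.coact (k := k) (A := A) v)
  classical
  have hle : cyclic (k := k) (A := A) V v ≤ Submodule.span k ((S.image Prod.fst : Finset V) : Set V) := by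
    rintro _ ⟨φ, rfl⟩
    rw [dactAt_apply, dact_apply, hS, map_sum]
    refine Submodule.sum_mem _ fun p hp => ?_
    rw [contract_tmul]
    exact Submodule.smul_mem _ _ (Submodule.subset_span (Finset.mem_image_of_mem _ hp))
  have : IsNoetherian k (Submodule.span k ((S.image Prod.fst : Finset V) : Set V)) :=
    isNoetherian_span_of_finite k (Finset.finite_toSet _)
  haveI := isNoetherian_of_le hle
  exact Module.Finite.iff_fg.1 inferInstance

variable {V}
variable [Module.Free k A]

theorem isSubcomod_iff (W : Submodule k V) :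
    HopfRep.IsSubcomod (k := k) (A := A) W ↔
      ∀ φ : A →ₗ[k] k, ∀ w ∈ W, dact V φ w ∈ W := by
  simp only [HopfRep.IsSubcomod, mem_range_rTensor_iff, dact_apply]
  exact ⟨fun h φ w hw => h w hw φ, fun h w hw φ => h φ w hw⟩

theorem dact_mem {W : Submodule k V} (hW : HopfRep.IsSubcomod (k := k) (A := A) W)
    (φ : A →ₗ[k] k) {w : V} (hw : w ∈ W) : dact V φ w ∈ W :=
  (isSubcomod_iff W).1 hW φ w hw

theorem isComodHom_iff (g : V →ₗ[k] V') :
    Hoch.IsComodHom A g ↔ ∀ (φ : A →ₗ[k] k) (v : V), g (dact V φ v) = dact V' φ (g v) := by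
  constructor
  · intro h φ v
    have h' := LinearMap.congr_fun h v
    simp only [LinearMap.comp_apply] at h'
    rw [dact_apply, dact_apply, h', contract_rTensor]
  · intro h
    refine LinearMap.ext fun v => ext_contract fun φ => ?_
    simp only [LinearMap.comp_apply]
    rw [contract_rTensor]
    exact (h φ v).symm

theorem map_dact {g : V →ₗ[k] V'} (hg : Hoch.IsComodHom A g) (φ : A →ₗ[k] k) (v : V) :
    g (dact V φ v) = dact V' φ (g v) :=
  (isComodHom_iff g).1 hg φ v

theorem isComodHom_id : Hoch.IsComodHom A (LinearMap.id : V →ₗ[k] V) :=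
  (isComodHom_iff _).2 fun _ _ => rfl

theorem isComodHom_sub {g g' : V →ₗ[k] V'} (hg : Hoch.IsComodHom A g)
    (hg' : Hoch.IsComodHom A g') : Hoch.IsComodHom A (g - g') :=
  (isComodHom_iff _).2 fun φ v => by simp [map_dact hg, map_dact hg']

theorem isComodHom_comp {V'' : Type*} [AddCommGroup V''] [Module k V''] [HopfRep.Comod k A V'']
    {g : V →ₗ[k] V'} {g' : V' →ₗ[k] V''} (hg : Hoch.IsComodHom A g)
    (hg' : Hoch.IsComodHom A g') : Hoch.IsComodHom A (g' ∘ₗ g) :=
  (isComodHom_iff _).2 fun φ v => by simp [map_dact hg, map_dact hg']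

theorem isSubcomod_bot : HopfRep.IsSubcomod (k := k) (A := A) (⊥ : Submodule k V) :=
  (isSubcomod_iff _).2 fun φ w hw => by simp [(Submodule.mem_bot k).1 hw]

theorem isSubcomod_top : HopfRep.IsSubcomod (k := k) (A := A) (⊤ : Submodule k V) :=
  (isSubcomod_iff _).2 fun _ _ _ => Submodule.mem_top

theorem isSubcomod_inf {W W' : Submodule k V} (h : HopfRep.IsSubcomod (k := k) (A := A) W)
    (h' : HopfRep.IsSubcomod (k := k) (A := A) W') :
    HopfRep.IsSubcomod (k := k) (A := A) (W ⊓ W') :=
  (isSubcomod_iff _).2 fun φ _ hw => ⟨dact_mem h φ hw.1, dact_mem h' φ hw.2⟩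

theorem isSubcomod_iSup {ι : Sort*} {W : ι → Submodule k V}
    (h : ∀ i, HopfRep.IsSubcomod (k := k) (A := A) (W i)) :
    HopfRep.IsSubcomod (k := k) (A := A) (⨆ i, W i) := by
  refine (isSubcomod_iff _).2 fun φ w hw => ?_
  have : Submodule.map (dact V φ) (⨆ i, W i) ≤ ⨆ i, W i := by
    rw [Submodule.map_iSup]
    refine iSup_mono fun i => ?_
    rintro _ ⟨x, hx, rfl⟩
    exact dact_mem (h i) φ hx
  exact this ⟨w, hw, rfl⟩

theorem isSubcomod_sup {W W' : Submodule k V} (h : HopfRep.IsSubcomod (k := k) (A := A) W)
    (h' : HopfRep.IsSubcomod (k := k) (A := A) W') :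
    HopfRep.IsSubcomod (k := k) (A := A) (W ⊔ W') := by
  rw [sup_eq_iSup]
  exact isSubcomod_iSup (by rintro (_ | _) <;> assumption)

theorem isSubcomod_sSup {S : Set (Submodule k V)}
    (h : ∀ W ∈ S, HopfRep.IsSubcomod (k := k) (A := A) W) :
    HopfRep.IsSubcomod (k := k) (A := A) (sSup S) := by
  rw [sSup_eq_iSup']
  exact isSubcomod_iSup fun W => h W W.2

theorem isSubcomod_cyclic (v : V) : HopfRep.IsSubcomod (k := k) (A := A) (cyclic (k := k) (A := A) V v) :=
  (isSubcomod_iff _).2 fun φ w ⟨ψ, hψ⟩ => ⟨conv φ ψ, by simp [← hψ, dact_dact]⟩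

theorem cyclic_le {W : Submodule k V} (hW : HopfRep.IsSubcomod (k := k) (A := A) W) {v : V}
    (hv : v ∈ W) : cyclic (k := k) (A := A) V v ≤ W := by
  rintro _ ⟨φ, rfl⟩
  exact dact_mem hW φ hv

theorem isSubcomod_map {g : V →ₗ[k] V'} (hg : Hoch.IsComodHom A g) {W : Submodule k V}
    (h : HopfRep.IsSubcomod (k := k) (A := A) W) :
    HopfRep.IsSubcomod (k := k) (A := A) (W.map g) := by
  refine (isSubcomod_iff _).2 ?_
  rintro φ _ ⟨x, hx, rfl⟩
  exact ⟨_, dact_mem h φ hx, map_dact hg φ x⟩

theorem isSubcomod_range {g : V →ₗ[k] V'} (hg : Hoch.IsComodHom A g) :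
    HopfRep.IsSubcomod (k := k) (A := A) (LinearMap.range g) := by
  rw [LinearMap.range_eq_map]
  exact isSubcomod_map hg isSubcomod_top

theorem isSubcomod_comap {g : V →ₗ[k] V'} (hg : Hoch.IsComodHom A g) {W : Submodule k V'}
    (h : HopfRep.IsSubcomod (k := k) (A := A) W) :
    HopfRep.IsSubcomod (k := k) (A := A) (W.comap g) :=
  (isSubcomod_iff _).2 fun φ x hx => by
    rw [Submodule.mem_comap, map_dact hg]; exact dact_mem h φ hx

theorem isSubcomod_ker {g : V →ₗ[k] V'} (hg : Hoch.IsComodHom A g) :
    HopfRep.IsSubcomod (k := k) (A := A) (LinearMap.ker g) :=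
  isSubcomod_comap hg isSubcomod_bot

/-- Every finitely generated subspace lies in a finitely generated subcomodule. -/
theorem exists_subcomod_fg [IsNoetherianRing k] (S : Finset V) :
    ∃ W : Submodule k V, W.FG ∧ HopfRep.IsSubcomod (k := k) (A := A) W ∧ (S : Set V) ⊆ W := by
  refine ⟨⨆ v ∈ S, cyclic (k := k) (A := A) V v, Submodule.fg_biSup _ _ fun v _ => cyclic_fg V v,
    isSubcomod_iSup fun v => isSubcomod_iSup fun _ => isSubcomod_cyclic v, fun v hv => ?_⟩
  exact le_biSup (fun v => cyclic (k := k) (A := A) V v) hv (self_mem_cyclic V v)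

/-- Finitely many vectors inside a subcomodule lie in a finitely generated subcomodule inside it. -/
theorem exists_subcomod_fg_le [IsNoetherianRing k] {U : Submodule k V}
    (hU : HopfRep.IsSubcomod (k := k) (A := A) U) (S : Finset V) (hS : (S : Set V) ⊆ U) :
    ∃ W : Submodule k V, W.FG ∧ HopfRep.IsSubcomod (k := k) (A := A) W ∧ W ≤ U ∧ (S : Set V) ⊆ W := by
  refine ⟨⨆ v ∈ S, cyclic (k := k) (A := A) V v, Submodule.fg_biSup _ _ fun v _ => cyclic_fg V v,
    isSubcomod_iSup fun v => isSubcomod_iSup fun _ => isSubcomod_cyclic v,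
    iSup₂_le fun v hv => cyclic_le hU (hS hv), fun v hv => ?_⟩
  exact le_biSup (fun v => cyclic (k := k) (A := A) V v) hv (self_mem_cyclic V v)

/-- The coaction restricted to a subcomodule. -/
def subCoact (W : Submodule k V) (hW : HopfRep.IsSubcomod (k := k) (A := A) W) :
    W →ₗ[k] W ⊗[k] A :=
  (LinearEquiv.ofInjective (W.subtype.rTensor A) (subtype_rTensor_injective W)).symm.toLinearMap ∘ₗ
    (HopfRep.Comod.coact (k := k) (A := A) ∘ₗ W.subtype).codRestrict
      (LinearMap.range (W.subtype.rTensor A)) (fun w => hW _ w.2)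

theorem subCoact_spec (W : Submodule k V) (hW : HopfRep.IsSubcomod (k := k) (A := A) W) :
    W.subtype.rTensor A ∘ₗ subCoact W hW = HopfRep.Comod.coact (k := k) (A := A) ∘ₗ W.subtype := by
  refine LinearMap.ext fun w => ?_
  simp only [subCoact, LinearMap.comp_apply, LinearEquiv.coe_coe]
  exact LinearEquiv.ofInjective_symm_apply ..

/-- The comodule structure on a subcomodule. -/
@[reducible] def subComod (W : Submodule k V) (hW : HopfRep.IsSubcomod (k := k) (A := A) W) :
    HopfRep.Comod k A W where
  coact := subCoact W hW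
  coassoc := by
    refine LinearMap.ext fun w => ?_
    apply Module.Flat.rTensor_preserves_injective_linearMap (M := A ⊗[k] A) W.subtype
      W.injective_subtype
    simp only [LinearMap.comp_apply, LinearEquiv.coe_coe]
    have e1 : ∀ y : (W ⊗[k] A) ⊗[k] A, W.subtype.rTensor (A ⊗[k] A) (TensorProduct.assoc k W A A y)
        = TensorProduct.assoc k V A A ((W.subtype.rTensor A).rTensor A y) := by
      intro y
      induction y using TensorProduct.induction_on with
      | zero => simp
      | tmul x c =>
        induction x using TensorProduct.induction_on with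
        | zero => simp
        | tmul _ _ => simp
        | add x y hx hy => simp only [TensorProduct.add_tmul, map_add, hx, hy]
      | add x y hx hy => simp only [map_add, hx, hy]
    have h := LinearMap.congr_fun (HopfRep.Comod.coassoc (k := k) (A := A) (V := V)) (w : V)
    simp only [LinearMap.comp_apply, LinearEquiv.coe_coe] at h
    have hρ : W.subtype.rTensor A (subCoact W hW w) = HopfRep.Comod.coact (k := k) (A := A) (w : V) :=
      LinearMap.congr_fun (subCoact_spec W hW) w
    rw [e1, ← LinearMap.comp_apply ((W.subtype.rTensor A).rTensor A), ← LinearMap.rTensor_comp,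
      subCoact_spec, LinearMap.rTensor_comp, LinearMap.comp_apply, hρ, h, ← hρ,
      ← LinearMap.comp_apply, LinearMap.lTensor_comp_rTensor, ← LinearMap.rTensor_comp_lTensor,
      LinearMap.comp_apply]
  counit_comp := by
    refine LinearMap.ext fun w => ?_
    apply Module.Flat.rTensor_preserves_injective_linearMap (M := k) W.subtype W.injective_subtype
    have h := LinearMap.congr_fun (HopfRep.Comod.counit_comp (k := k) (A := A) (V := V)) (w : V)
    have hρ : W.subtype.rTensor A (subCoact W hW w) = HopfRep.Comod.coact (k := k) (A := A) (w : V) :=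
      LinearMap.congr_fun (subCoact_spec W hW) w
    simp only [LinearMap.comp_apply] at h ⊢
    rw [← LinearMap.comp_apply (W.subtype.rTensor k), LinearMap.rTensor_comp_lTensor,
      ← LinearMap.lTensor_comp_rTensor, LinearMap.comp_apply, hρ, h]
    simp

theorem isComodHom_subtype {W : Submodule k V} (hW : HopfRep.IsSubcomod (k := k) (A := A) W) :
    letI := subComod W hW
    Hoch.IsComodHom A W.subtype := (subCoact_spec W hW).symm

/-- The comodule structure on the quotient by a subcomodule. -/
@[reducible] def quotComod (W : Submodule k V) (hW : HopfRep.IsSubcomod (k := k) (A := A) W) :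
    HopfRep.Comod k A (V ⧸ W) where
  coact := W.liftQ (W.mkQ.rTensor A ∘ₗ HopfRep.Comod.coact (k := k) (A := A)) (by
    intro w hw
    obtain ⟨y, hy⟩ := hW w hw
    simp only [LinearMap.mem_ker, LinearMap.comp_apply]
    rw [← hy, ← LinearMap.comp_apply, ← LinearMap.rTensor_comp]
    have : W.mkQ ∘ₗ W.subtype = 0 := by ext x; simp
    simp [this])
  coassoc := by
    refine LinearMap.ext fun q => ?_
    obtain ⟨v, rfl⟩ := W.mkQ_surjective q
    have h := LinearMap.congr_fun (HopfRep.Comod.coassoc (k := k) (A := A) (V := V)) v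
    simp only [LinearMap.comp_apply, LinearEquiv.coe_coe] at h ⊢
    rw [Submodule.mkQ_apply, Submodule.liftQ_apply, LinearMap.comp_apply,
      ← LinearMap.comp_apply, ← LinearMap.rTensor_comp, Submodule.liftQ_mkQ,
      LinearMap.rTensor_comp, LinearMap.comp_apply,
      ← LinearMap.comp_apply (CoalgebraStruct.comul.lTensor (V ⧸ W)),
      LinearMap.lTensor_comp_rTensor, ← LinearMap.rTensor_comp_lTensor, LinearMap.comp_apply, ← h]
    generalize (HopfRep.Comod.coact (k := k) (A := A) (V := V)).rTensor A _ = y
    induction y using TensorProduct.induction_on with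
    | zero => simp
    | tmul x c =>
      induction x using TensorProduct.induction_on with
      | zero => simp
      | tmul _ _ => simp
      | add x y hx hy => simp only [TensorProduct.add_tmul, map_add, hx, hy]
    | add x y hx hy => simp only [map_add, hx, hy]
  counit_comp := by
    refine LinearMap.ext fun q => ?_
    obtain ⟨v, rfl⟩ := W.mkQ_surjective q
    have h := LinearMap.congr_fun (HopfRep.Comod.counit_comp (k := k) (A := A) (V := V)) v
    simp only [LinearMap.comp_apply] at h ⊢
    rw [Submodule.mkQ_apply, Submodule.liftQ_apply, LinearMap.comp_apply, ← LinearMap.comp_apply,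
      LinearMap.lTensor_comp_rTensor, ← LinearMap.rTensor_comp_lTensor, LinearMap.comp_apply, h]
    simp

omit [Module.Free k A] in
theorem isComodHom_mkQ {W : Submodule k V} (hW : HopfRep.IsSubcomod (k := k) (A := A) W) :
    letI := quotComod W hW
    Hoch.IsComodHom A W.mkQ := rfl

/-- Transport of a comodule structure along a linear equivalence. -/
@[reducible] def equivComod {U : Type*} [AddCommGroup U] [Module k U] (e : V ≃ₗ[k] U) :
    HopfRep.Comod k A U where
  coact := e.toLinearMap.rTensor A ∘ₗ HopfRep.Comod.coact (k := k) (A := A) ∘ₗ e.symm.toLinearMap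
  coassoc := by
    refine LinearMap.ext fun q => ?_
    obtain ⟨v, rfl⟩ := e.surjective q
    have h := LinearMap.congr_fun (HopfRep.Comod.coassoc (k := k) (A := A) (V := V)) v
    simp only [LinearMap.comp_apply, LinearEquiv.coe_coe, LinearEquiv.symm_apply_apply] at h ⊢
    rw [← LinearMap.comp_apply, ← LinearMap.rTensor_comp,
      LinearMap.comp_assoc, LinearMap.comp_assoc,
      show e.symm.toLinearMap ∘ₗ e.toLinearMap = LinearMap.id from LinearMap.ext e.symm_apply_apply,
      LinearMap.comp_id, LinearMap.rTensor_comp, LinearMap.comp_apply,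
      ← LinearMap.comp_apply (CoalgebraStruct.comul.lTensor U),
      LinearMap.lTensor_comp_rTensor, ← LinearMap.rTensor_comp_lTensor, LinearMap.comp_apply, ← h]
    generalize (HopfRep.Comod.coact (k := k) (A := A) (V := V)).rTensor A _ = y
    induction y using TensorProduct.induction_on with
    | zero => simp
    | tmul x c =>
      induction x using TensorProduct.induction_on with
      | zero => simp
      | tmul _ _ => simp
      | add x y hx hy => simp only [TensorProduct.add_tmul, map_add, hx, hy]
    | add x y hx hy => simp only [map_add, hx, hy]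
  counit_comp := by
    refine LinearMap.ext fun q => ?_
    obtain ⟨v, rfl⟩ := e.surjective q
    have h := LinearMap.congr_fun (HopfRep.Comod.counit_comp (k := k) (A := A) (V := V)) v
    simp only [LinearMap.comp_apply, LinearEquiv.coe_coe, LinearEquiv.symm_apply_apply] at h ⊢
    rw [← LinearMap.comp_apply,
      LinearMap.lTensor_comp_rTensor, ← LinearMap.rTensor_comp_lTensor, LinearMap.comp_apply, h]
    simp

omit [Module.Free k A] in
theorem isComodHom_equiv {U : Type*} [AddCommGroup U] [Module k U] (e : V ≃ₗ[k] U) :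
    letI := equivComod (A := A) e
    Hoch.IsComodHom A e.toLinearMap := by
  refine LinearMap.ext fun v => ?_
  change e.toLinearMap.rTensor A (HopfRep.Comod.coact (e.symm (e v))) = _
  rw [e.symm_apply_apply]
  rfl

end Coalg

end

end Groth.Agent.Lib.Comod.Basic
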