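import Groth.Agent.Lib.Comod.Orbits
import Mathlib.RingTheory.Coalgebra.GroupLike
import Mathlib.RingTheory.Bialgebra.GroupLike
import Mathlib.RingTheory.Bialgebra.MonoidAlgebra
import Mathlib.LinearAlgebra.Basis.VectorSpace

/-!
Comodules over diagonalizable coalgebras: the weight decomposition.
-/

universe u v w

open TensorProduct Groth.Agent.Lib.Comod.Basic Groth.Agent.Lib.Comod.Reynolds

namespace Groth.Agent.Lib.Comod.Diag

set_option linter.unusedSectionVars false

noncomputable section

variable {k : Type u} [Field k] {A : Type v} [CommRing A] [Bialgebra k A]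
variable {ι : Type*} (b : Module.Basis ι k A) (hb : ∀ i, IsGroupLikeElem k (b i))
variable {V : Type w} [AddCommGroup V] [Module k V] [HopfRep.Comod k A V]

variable (V) in
/-- The projection on the weight space of `b i`. -/
def proj (i : ι) : V →ₗ[k] V := dact V (b.coord i)

include hb

theorem conv_coord (ψ : A →ₗ[k] k) (i : ι) : conv ψ (b.coord i) = ψ (b i) • b.coord i := by
  classical
  refine b.ext fun j => ?_
  simp only [conv, LinearMap.comp_apply, (hb j).comul_eq_tmul_self, TensorProduct.map_tmul,
    LinearMap.mul'_apply, LinearMap.smul_apply, Module.Basis.coord_apply, Module.Basis.repr_self,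
    Finsupp.single_apply, smul_eq_mul]
  split_ifs with h
  · rw [h]
  · simp

theorem proj_mem_eigenspace (i : ι) (v : V) :
    proj b V i v ∈ HopfRep.eigenspace k A V (b i) :=
  mem_eigenspace_iff.2 fun ψ => by
    rw [proj, dact_dact, conv_coord b hb, dact_smul, LinearMap.smul_apply]

omit hb in
theorem proj_of_mem [DecidableEq ι] {i j : ι} {v : V}
    (hv : v ∈ HopfRep.eigenspace k A V (b j)) : proj b V i v = if i = j then v else 0 := by
  rw [proj, mem_eigenspace_iff.1 hv, Module.Basis.coord_apply, Module.Basis.repr_self]
  by_cases h : i = j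
  · simp [h]
  · simp [h]

/-- A vector is the sum of its finitely many weight components. -/
theorem exists_finset_sum_proj (v : V) :
    ∃ s : Finset ι, (∀ i ∉ s, proj b V i v = 0) ∧ v = ∑ i ∈ s, proj b V i v := by
  classical
  refine ⟨(TensorProduct.equivFinsuppOfBasisRight b (HopfRep.Comod.coact (k := k) (A := A) v)).support,
    fun i hi => ?_, ?_⟩
  · rw [proj, dact_apply, ← equivFinsupp_apply_eq_contract]
    exact Finsupp.notMem_support_iff.1 hi
  · conv_lhs => rw [← dact_counit_apply (k := k) (A := A) V v, dact_apply,
      eq_sum_contract_tmul b (HopfRep.Comod.coact (k := k) (A := A) v), map_sum]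
    refine Finset.sum_congr rfl fun i _ => ?_
    rw [contract_tmul, (hb i).counit_eq_one, one_smul]
    rfl

theorem fixedPts_eq_eigenspace_one : HopfRep.fixedPts k A V = HopfRep.eigenspace k A V 1 := rfl

end

section Instances

noncomputable section

variable (k : Type u) [Field k] (M : Type v)

theorem isGroupLike_single [AddMonoid M] (m : M) :
    IsGroupLikeElem k (AddMonoidAlgebra.single m (1 : k) : AddMonoidAlgebra k M) where
  counit_eq_one := by simp
  comul_eq_tmul_self := by simp

/-- The monomial basis of a group algebra. -/
def monoBasis [AddMonoid M] : Module.Basis M k (AddMonoidAlgebra k M) :=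
  AddMonoidAlgebra.basis M k

theorem monoBasis_apply [AddMonoid M] (m : M) :
    monoBasis k M m = AddMonoidAlgebra.single m (1 : k) :=
  AddMonoidAlgebra.basis_apply k m

theorem monoBasis_groupLike [AddMonoid M] (m : M) : IsGroupLikeElem k (monoBasis k M m) := by
  rw [monoBasis_apply]; exact isGroupLike_single k M m

variable {k} in
/-- A basis of group-like elements of a diagonalizable coalgebra. -/
theorem exists_groupLike_basis {A : Type v} [CommRing A] [Bialgebra k A]
    (h : HopfRep.IsDiagonalizable k A) :
    ∃ b : Module.Basis {a : A // IsGroupLikeElem k a} k A, ∀ i, b i = i.1 := by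
  have hli : LinearIndependent k (fun a : {a : A // IsGroupLikeElem k a} => a.1) :=
    linearIndepOn_isGroupLikeElem
  refine ⟨Module.Basis.mk hli ?_, fun i => Module.Basis.mk_apply _ _ i⟩
  rw [Subtype.range_coe_subtype]
  exact h.ge

end

end Instances

end Groth.Agent.Lib.Comod.Diag
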