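import Groth.Agent.Lib.Comod.Alg
import Mathlib.Algebra.Polynomial.Coeff
import Mathlib.RingTheory.FiniteType
import Mathlib.RingTheory.Polynomial.Basic

/-!
Invariant rings of linearly reductive groups: `IR ∩ R^G = I`, Noetherianity, finiteness.
-/

universe u v w w'

open TensorProduct Groth.Agent.Lib.Comod.Basic Groth.Agent.Lib.Comod.Reynolds
  Groth.Agent.Lib.Comod.Alg

namespace Groth.Agent.Lib.Comod.Invariants

set_option linter.style.haveILetI false

noncomputable section

variable {k : Type u} [Field k] {A : Type v} [CommRing A] [Bialgebra k A]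
variable (hG : HopfRep.IsLinearlyReductive k A)
variable {R : Type w} [CommRing R] [Algebra k R] [HopfRep.Comod k A R] [GLin.IsCoactAlg k A R]
variable {M : Type w'} [AddCommGroup M] [Module k M] [Module R M] [IsScalarTower k R M]
  [HopfRep.Comod k A M] [TameAct.IsHopfMod k A R M]

include hG

omit [GLin.IsCoactAlg k A R] in
theorem reynolds_smul {E : M →ₗ[k] M} (hE : IsReynolds (A := A) E) {b : R}
    (hb : b ∈ HopfRep.fixedPts k A R) (m : M) : E (b • m) = b • E m :=
  hE.natural_apply hG hE (isComodHom_smul M hb) m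

omit [GLin.IsCoactAlg k A R] in
theorem reynolds_smul_fixed {E : M →ₗ[k] M} (hE : IsReynolds (A := A) E)
    {F : R →ₗ[k] R} (hF : IsReynolds (A := A) F) (r : R) {m : M}
    (hm : m ∈ HopfRep.fixedPts k A M) : E (r • m) = F r • m :=
  hF.natural_apply hG hE (isComodHom_smul_fixed hm) r

theorem reynolds_mul_invariant {F : R →ₗ[k] R} (hF : IsReynolds (A := A) F) (x : R) {y : R}
    (hy : y ∈ HopfRep.fixedPts k A R) : F (x * y) = F x * y := by
  simpa using reynolds_smul_fixed hG hF hF x hy

/-- An ideal of the invariant ring extended to the whole ring contracts to itself. -/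
theorem comap_map_eq (I : Ideal (GLin.invariants k A R)) :
    (I.map (GLin.invariants k A R).val.toRingHom).comap (GLin.invariants k A R).val.toRingHom = I := by
  refine le_antisymm (fun x hx => ?_) Ideal.le_comap_map
  obtain ⟨E, hE⟩ := exists_isReynolds (A := A) R hG
  rw [Ideal.mem_comap] at hx
  change (x : R) ∈ Ideal.map _ I at hx
  have key : ∀ z ∈ I.map (GLin.invariants k A R).val.toRingHom,
      ∃ i ∈ I, E z = (i : R) := by
    intro z hz
    rw [Ideal.map] at hz
    induction hz using Submodule.span_induction with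
    | mem z hz =>
      obtain ⟨i, hi, rfl⟩ := hz
      exact ⟨i, hi, hE.apply_of_mem i.2⟩
    | zero => exact ⟨0, I.zero_mem, by simp⟩
    | add z w _ _ hz hw =>
      obtain ⟨i, hi, hi'⟩ := hz
      obtain ⟨j, hj, hj'⟩ := hw
      exact ⟨i + j, I.add_mem hi hj, by simp [hi', hj']⟩
    | smul r z hz hz' =>
      clear hz'
      revert r
      induction hz using Submodule.span_induction with
      | mem z hz =>
        intro r
        obtain ⟨i, hi, rfl⟩ := hz
        refine ⟨⟨E r, hE.mem r⟩ * i, I.mul_mem_left _ hi, ?_⟩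
        simpa using reynolds_mul_invariant hG hE r i.2
      | zero => exact fun r => ⟨0, I.zero_mem, by simp⟩
      | add z w _ _ hz hw =>
        intro r
        obtain ⟨i, hi, hi'⟩ := hz r
        obtain ⟨j, hj, hj'⟩ := hw r
        exact ⟨i + j, I.add_mem hi hj, by simp only [smul_add, map_add, hi', hj']; simp⟩
      | smul s z _ hz =>
        intro r
        rw [smul_smul]
        exact hz (r * s)
  obtain ⟨i, hi, hi'⟩ := key _ hx
  rw [hE.apply_of_mem x.2] at hi'
  exact Subtype.ext hi' ▸ hi

theorem isNoetherianRing_invariants [IsNoetherianRing R] :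
    IsNoetherianRing (GLin.invariants k A R) := by
  rw [isNoetherianRing_iff, isNoetherian_iff']
  exact (OrderEmbedding.ofMapLEIff (Ideal.map (GLin.invariants k A R).val.toRingHom)
    fun I J => ⟨fun h => by
      rw [← comap_map_eq hG I, ← comap_map_eq hG J]; exact Ideal.comap_mono h,
      fun h => Ideal.map_mono h⟩).wellFoundedGT

/-- Invariants of a Noetherian equivariant module are finitely generated over the invariant ring. -/
theorem exists_finset_fixedPts [IsNoetherian R M] :
    ∃ s : Finset M, (↑s : Set M) ⊆ (HopfRep.fixedPts k A M : Set M) ∧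
      ∀ m ∈ HopfRep.fixedPts k A M, ∃ c : M → R,
        (∀ y, c y ∈ GLin.invariants k A R) ∧ m = ∑ y ∈ s, c y • y := by
  obtain ⟨s, hs, hspan⟩ := (Submodule.fg_span_iff_fg_span_finset_subset _).1
    (IsNoetherian.noetherian (Submodule.span R (HopfRep.fixedPts k A M : Set M)))
  refine ⟨s, hs, fun m hm => ?_⟩
  have hm' : m ∈ Submodule.span R (↑s : Set M) := hspan ▸ Submodule.subset_span hm
  obtain ⟨c, -, hc⟩ := Submodule.mem_span_finset.1 hm'
  obtain ⟨E, hE⟩ := exists_isReynolds (A := A) M hG
  obtain ⟨F, hF⟩ := exists_isReynolds (A := A) R hG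
  refine ⟨fun y => F (c y), fun y => hF.mem _, ?_⟩
  calc m = E m := (hE.apply_of_mem hm).symm
    _ = ∑ y ∈ s, E (c y • y) := by rw [← hc, map_sum]
    _ = _ := Finset.sum_congr rfl fun y hy => reynolds_smul_fixed hG hE hF _ (hs hy)

/-- Finite generation of invariants relative to a Noetherian stable subalgebra. -/
theorem exists_finset_invariants (A₀ : Subalgebra k R) [IsNoetherianRing A₀]
    (hA₀ : HopfRep.IsSubcomod (k := k) (A := A) (Subalgebra.toSubmodule A₀))
    (W : Submodule k R) (hWfg : W.FG) (hW : HopfRep.IsSubcomod (k := k) (A := A) W)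
    (hgen : Algebra.adjoin k ((A₀ : Set R) ∪ (W : Set R)) = ⊤) :
    ∃ s : Finset R, (↑s : Set R) ⊆ (GLin.invariants k A R : Set R) ∧
      GLin.invariants k A R =
        Algebra.adjoin k (((A₀ : Set R) ∩ (GLin.invariants k A R : Set R)) ∪ ↑s) := by
  classical
  obtain ⟨g, hg⟩ := hWfg
  set W₁ : Submodule k R := 1 ⊔ W with hW₁
  let F : ℕ → Submodule k R := fun n => Subalgebra.toSubmodule A₀ * W₁ ^ n
  have hFsub : ∀ n, HopfRep.IsSubcomod (k := k) (A := A) (F n) := fun n =>
    isSubcomod_mul hA₀ (isSubcomod_pow (isSubcomod_sup isSubcomod_one hW) n)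
  have hA00 : Subalgebra.toSubmodule A₀ * Subalgebra.toSubmodule A₀ = Subalgebra.toSubmodule A₀ :=
    le_antisymm (Submodule.mul_le.2 fun a ha b hb => A₀.mul_mem ha hb)
      fun a ha => by simpa using Submodule.mul_mem_mul (M := Subalgebra.toSubmodule A₀) (N := Subalgebra.toSubmodule A₀) ha A₀.one_mem
  have hFmul : ∀ m n, F m * F n = F (m + n) := fun m n => by
    simp only [F]; rw [mul_mul_mul_comm, hA00, pow_add]
  have hF0 : F 0 = Subalgebra.toSubmodule A₀ := by simp [F]
  have hFone : ∀ n, (1 : R) ∈ F n := fun n => by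
    have h1 : (1 : R) ∈ W₁ ^ n := by
      induction n with
      | zero => rw [pow_zero]; exact Submodule.one_le.1 le_rfl
      | succ n ih =>
        rw [pow_succ]
        simpa using Submodule.mul_mem_mul ih
          (Submodule.mem_sup_left (T := W) (Submodule.one_le.1 le_rfl))
    simpa using Submodule.mul_mem_mul (M := Subalgebra.toSubmodule A₀) A₀.one_mem h1
  have hFmono : ∀ {m n}, m ≤ n → F m ≤ F n := by
    intro m n h x hx
    rw [← Nat.add_sub_cancel' h, ← hFmul]
    simpa using Submodule.mul_mem_mul hx (hFone (n - m))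
  have hFall : ∀ x : R, ∃ n, x ∈ F n := by
    intro x
    have hx : x ∈ Algebra.adjoin k ((A₀ : Set R) ∪ (W : Set R)) := hgen ▸ Algebra.mem_top
    induction hx using Algebra.adjoin_induction with
    | mem x hx =>
      rcases hx with hx | hx
      · exact ⟨0, hF0 ▸ hx⟩
      · refine ⟨1, ?_⟩
        simpa [F] using Submodule.mul_mem_mul (M := Subalgebra.toSubmodule A₀) A₀.one_mem
          (Submodule.mem_sup_right (S := (1 : Submodule k R)) hx)
    | algebraMap r => exact ⟨0, hF0 ▸ A₀.algebraMap_mem r⟩
    | add x y _ _ hx hy =>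
      obtain ⟨m, hm⟩ := hx
      obtain ⟨n, hn⟩ := hy
      exact ⟨max m n, Submodule.add_mem _ (hFmono (le_max_left _ _) hm) (hFmono (le_max_right _ _) hn)⟩
    | mul x y _ _ hx hy =>
      obtain ⟨m, hm⟩ := hx
      obtain ⟨n, hn⟩ := hy
      exact ⟨m + n, hFmul m n ▸ Submodule.mul_mem_mul hm hn⟩
  -- the Rees algebra of the filtration
  let T : Subalgebra A₀ (Polynomial R) :=
    Algebra.adjoin A₀ ↑((insert (1 : R) g).image fun w => Polynomial.monomial 1 w)
  haveI : Algebra.FiniteType A₀ T := (Subalgebra.fg_iff_finiteType T).1 (Subalgebra.fg_adjoin_finset _)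
  haveI : IsNoetherianRing T := Algebra.FiniteType.isNoetherianRing A₀ T
  have hTcoeff : ∀ p ∈ T, ∀ n, p.coeff n ∈ F n := by
    intro p hp
    induction hp using Algebra.adjoin_induction with
    | mem p hp =>
      obtain ⟨w, hw, rfl⟩ := Finset.mem_image.1 hp
      intro n
      rw [Polynomial.coeff_monomial]
      split_ifs with h
      · subst h
        have hw1 : w ∈ W₁ := by
          rcases Finset.mem_insert.1 hw with rfl | hw
          · exact Submodule.mem_sup_left (Submodule.one_le.1 le_rfl)
          · exact Submodule.mem_sup_right (hg ▸ Submodule.subset_span hw)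
        simpa [F] using Submodule.mul_mem_mul (M := Subalgebra.toSubmodule A₀) A₀.one_mem hw1
      · exact zero_mem _
    | algebraMap a =>
      intro n
      rw [Polynomial.algebraMap_apply, Polynomial.coeff_C]
      split_ifs with h
      · subst h; exact hF0 ▸ a.2
      · exact zero_mem _
    | add p q _ _ hp hq => intro n; rw [Polynomial.coeff_add]; exact add_mem (hp n) (hq n)
    | mul p q _ _ hp hq =>
      intro n
      rw [Polynomial.coeff_mul]
      refine sum_mem fun ij hij => ?_
      rw [← Finset.mem_antidiagonal.1 hij, ← hFmul]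
      exact Submodule.mul_mem_mul (hp _) (hq _)
  let L : ℕ → Submodule k R := fun n =>
    ((Subalgebra.toSubmodule T).restrictScalars k).comap ((Polynomial.monomial n).restrictScalars k)
  have hL : ∀ n x, x ∈ L n ↔ Polynomial.monomial n x ∈ T := fun n x => Iff.rfl
  have hLmul : ∀ m n, L m * L n ≤ L (m + n) := fun m n => Submodule.mul_le.2 fun x hx y hy => by
    rw [hL] at hx hy ⊢
    rw [← Polynomial.monomial_mul_monomial]
    exact mul_mem hx hy
  have hFL : ∀ n, F n ≤ L n := by
    have h1 : W₁ ≤ L 1 := by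
      have hgle : ∀ w ∈ insert (1 : R) g, w ∈ L 1 := fun w hw =>
        (hL 1 w).2 (Algebra.subset_adjoin (Finset.mem_coe.2 (Finset.mem_image_of_mem _ hw)))
      refine sup_le (Submodule.one_le.2 (hgle 1 (Finset.mem_insert_self _ _))) ?_
      rw [← hg, Submodule.span_le]
      exact fun w hw => hgle w (Finset.mem_insert_of_mem hw)
    have h0 : Subalgebra.toSubmodule A₀ ≤ L 0 := fun a ha => by
      rw [hL, Polynomial.monomial_zero_left]
      exact T.algebraMap_mem ⟨a, ha⟩
    intro n
    induction n with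
    | zero => rw [hF0]; exact h0
    | succ n ih =>
      calc F (n + 1) = F n * W₁ := by simp only [F, pow_succ, mul_assoc]
        _ ≤ L n * L 1 := mul_le_mul' ih h1
        _ ≤ L (n + 1) := hLmul n 1
  -- the ideal generated by invariants of positive degree
  let G : Set T := {p | ∃ d f, 0 < d ∧ f ∈ F d ∧ f ∈ GLin.invariants k A R ∧
    (p : Polynomial R) = Polynomial.monomial d f}
  obtain ⟨s', hs', hspan⟩ := (Submodule.fg_span_iff_fg_span_finset_subset G).1
    (IsNoetherian.noetherian (Ideal.span G))
  have hsmem : ∀ p ∈ s', ∃ d, 0 < d ∧ ∃ f, f ∈ F d ∧ f ∈ GLin.invariants k A R ∧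
      (p : Polynomial R) = Polynomial.monomial d f := fun p hp => by
    obtain ⟨d, f, hd, hf, hfi, h⟩ := hs' hp
    exact ⟨d, hd, f, hf, hfi, h⟩
  choose d hd f hfF hfi hpf using hsmem
  refine ⟨s'.attach.image fun p => f p.1 p.2, ?_, le_antisymm ?_ ?_⟩
  · intro x hx
    obtain ⟨p, -, rfl⟩ := Finset.mem_image.1 hx
    exact hfi _ _
  swap
  · refine Algebra.adjoin_le ?_
    rintro x (hx | hx)
    · exact hx.2
    · obtain ⟨p, -, rfl⟩ := Finset.mem_image.1 hx
      exact hfi _ _
  intro x hx
  obtain ⟨n, hn⟩ := hFall x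
  obtain ⟨E, hE⟩ := exists_isReynolds (A := A) R hG
  induction n using Nat.strong_induction_on generalizing x with
  | _ n ih =>
    rcases Nat.eq_zero_or_pos n with rfl | hnpos
    · rw [hF0] at hn
      exact Algebra.subset_adjoin (Or.inl ⟨hn, hx⟩)
    have hxT : (⟨Polynomial.monomial n x, (hL n x).1 (hFL n hn)⟩ : T) ∈ Ideal.span (↑s' : Set T) := by
      rw [Ideal.span, ← hspan]
      exact Submodule.subset_span ⟨n, x, hnpos, hn, hx, rfl⟩
    obtain ⟨c, -, hc⟩ := Submodule.mem_span_finset.1 hxT
    have hx' : x = ∑ p ∈ s'.attach, if d p.1 p.2 ≤ n then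
        (c p.1 : Polynomial R).coeff (n - d p.1 p.2) * f p.1 p.2 else 0 := by
      have h := congrArg (fun q : T => (q : Polynomial R).coeff n) hc
      simp only [smul_eq_mul, AddSubmonoidClass.coe_finsetSum, MulMemClass.coe_mul,
        Polynomial.finsetSum_coeff, Polynomial.coeff_monomial_same] at h
      rw [← h, ← Finset.sum_attach s']
      refine Finset.sum_congr rfl fun p _ => ?_
      rw [hpf p.1 p.2, ← Polynomial.C_mul_X_pow_eq_monomial, ← mul_assoc,
        Polynomial.coeff_mul_X_pow']
      simp
    rw [← hE.apply_of_mem hx, hx', map_sum]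
    refine Subalgebra.sum_mem _ fun p _ => ?_
    split_ifs with hle
    · rw [reynolds_mul_invariant hG hE _ (hfi p.1 p.2)]
      refine mul_mem ?_
        (Algebra.subset_adjoin (Or.inr (Finset.mem_image.2 ⟨p, Finset.mem_attach _ _, rfl⟩)))
      apply ih (n - d p.1 p.2) (by have := hd p.1 p.2; omega)
      case hx => exact hE.mem _
      exact hE.map_mem hG (hFsub _) (hTcoeff _ (c p.1).2 _)
    · rw [map_zero]; exact zero_mem _

end

end Groth.Agent.Lib.Comod.Invariants
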