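import Groth.Agent.Lib.Comod.Invariants
import Mathlib.RingTheory.HopfAlgebra.Convolution
import Mathlib.RingTheory.FiniteStability
import Mathlib.RingTheory.Spectrum.Prime.Chevalley
import Mathlib.RingTheory.Spectrum.Prime.Jacobson
import Mathlib.RingTheory.Jacobson.Ring
import Mathlib.FieldTheory.IsAlgClosed.Basic
import Mathlib.RingTheory.Ideal.MinimalPrime.Localization
import Mathlib.RingTheory.LocalRing.ResidueField.Ideal

/-!
Orbits of rational points of an affine scheme with an action of an affine group.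
-/

universe u v w

open TensorProduct Groth.Agent.Lib.Comod.Basic Groth.Agent.Lib.Comod.Reynolds
  Groth.Agent.Lib.Comod.Alg

namespace Groth.Agent.Lib.Comod.Orbits

set_option linter.style.haveILetI false

noncomputable section

section Bialg

variable {k : Type u} [CommRing k] {A : Type v} [CommRing A] [Bialgebra k A]
variable {R : Type w} [CommRing R] [Algebra k R] [HopfRep.Comod k A R] [GLin.IsCoactAlg k A R]

theorem apply_orbitHom (x : R →ₐ[k] k) (φ : A →ₗ[k] k) (f : R) :
    φ (GLin.orbitHom k A x f) = x (dact R φ f) := by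
  simp only [GLin.orbitHom, AlgHom.comp_apply, GLin.coactAlgHom_apply, dact_apply]
  induction HopfRep.Comod.coact (k := k) (A := A) f using TensorProduct.induction_on with
  | zero => simp
  | tmul r a => simp [mul_comm]
  | add y z hy hz => simp only [map_add, hy, hz]

omit [GLin.IsCoactAlg k A R] in
theorem act_eq_dact (g : A →ₐ[k] k) : HopfRep.Comod.act k A R g = dact R g.toLinearMap := rfl

theorem actPt_apply (g : A →ₐ[k] k) (x : R →ₐ[k] k) (f : R) :
    GLin.actPt k g x f = x (dact R g.toLinearMap f) :=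
  apply_orbitHom x g.toLinearMap f

theorem orbitHom_fixed (x : R →ₐ[k] k) {f : R} (hf : f ∈ HopfRep.fixedPts k A R) :
    GLin.orbitHom k A x f = algebraMap k A (x f) := by
  simp only [GLin.orbitHom, AlgHom.comp_apply, GLin.coactAlgHom_apply,
    show HopfRep.Comod.coact (k := k) (A := A) f = f ⊗ₜ[k] 1 from hf]
  simp [Algebra.algebraMap_eq_smul_one]

theorem actPt_fixed (g : A →ₐ[k] k) (x : R →ₐ[k] k) {f : R}
    (hf : f ∈ HopfRep.fixedPts k A R) : GLin.actPt k g x f = x f := by
  change g (GLin.orbitHom k A x f) = x f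
  rw [orbitHom_fixed x hf, AlgHom.commutes]
  rfl

theorem actPt_counit (x : R →ₐ[k] k) :
    GLin.actPt k (Bialgebra.counitAlgHom k A) x = x := by
  ext f
  rw [actPt_apply]
  exact congrArg x (dact_counit_apply R f)

/-- The product of two rational points of the group. -/
def mulPt (g h : A →ₐ[k] k) : A →ₐ[k] k :=
  (Algebra.TensorProduct.productMap g h).comp (Bialgebra.comulAlgHom k A)

theorem mulPt_toLinearMap (g h : A →ₐ[k] k) :
    (mulPt g h).toLinearMap = conv g.toLinearMap h.toLinearMap := by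
  refine LinearMap.ext fun a => ?_
  simp only [mulPt, conv, AlgHom.toLinearMap_apply, AlgHom.comp_apply, LinearMap.comp_apply,
    Bialgebra.comulAlgHom_apply]
  induction CoalgebraStruct.comul (R := k) (A := A) a using TensorProduct.induction_on with
  | zero => simp
  | tmul _ _ => simp
  | add y z hy hz => simp only [map_add, hy, hz]

theorem actPt_actPt (g h : A →ₐ[k] k) (x : R →ₐ[k] k) :
    GLin.actPt k g (GLin.actPt k h x) = GLin.actPt k (mulPt h g) x := by
  ext f
  rw [actPt_apply, actPt_apply, actPt_apply, dact_dact, mulPt_toLinearMap]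

/-- The ideal of the orbit closure. -/
abbrev orbitKer (x : R →ₐ[k] k) : Ideal R := RingHom.ker (GLin.orbitHom k A x)

variable [Module.Free k A]

theorem mem_orbitKer_iff (x : R →ₐ[k] k) (f : R) :
    f ∈ orbitKer (A := A) x ↔ ∀ φ : A →ₗ[k] k, x (dact R φ f) = 0 := by
  rw [RingHom.mem_ker]
  refine ⟨fun h φ => by rw [← apply_orbitHom, h, map_zero], fun h => ?_⟩
  refine (Module.Free.chooseBasis k A).repr.injective (Finsupp.ext fun i => ?_)
  rw [map_zero, Finsupp.zero_apply]
  exact (apply_orbitHom x ((Module.Free.chooseBasis k A).coord i) f).trans (h _)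

theorem orbitKer_le_ker (x : R →ₐ[k] k) : orbitKer (A := A) x ≤ RingHom.ker x := by
  intro f hf
  have h := (mem_orbitKer_iff x f).1 hf CoalgebraStruct.counit
  rwa [dact_counit_apply] at h

theorem isSubcomod_orbitKer (x : R →ₐ[k] k) :
    HopfRep.IsSubcomod (k := k) (A := A) ((orbitKer (A := A) x).restrictScalars k) :=
  (isSubcomod_iff _).2 fun φ f hf => (mem_orbitKer_iff x _).2 fun ψ => by
    rw [dact_dact]; exact (mem_orbitKer_iff x f).1 hf _

theorem le_orbitKer {x : R →ₐ[k] k} {I : Ideal R}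
    (hI : HopfRep.IsSubcomod (k := k) (A := A) (I.restrictScalars k)) (h : I ≤ RingHom.ker x) :
    I ≤ orbitKer (A := A) x :=
  fun f hf => (mem_orbitKer_iff x f).2 fun φ => h (dact_mem hI φ hf)

omit [Module.Free k A] in
theorem sub_mem_orbitKer (x : R →ₐ[k] k) {f : R} (hf : f ∈ HopfRep.fixedPts k A R) :
    f - algebraMap k R (x f) ∈ orbitKer (A := A) x := by
  rw [RingHom.mem_ker, map_sub, orbitHom_fixed x hf, AlgHom.commutes, sub_self]

omit [Module.Free k A] in
theorem eq_on_fixedPts {x z : R →ₐ[k] k} (h : orbitKer (A := A) x ≤ RingHom.ker z) {f : R}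
    (hf : f ∈ HopfRep.fixedPts k A R) : z f = x f := by
  have := h (sub_mem_orbitKer x hf)
  rwa [RingHom.mem_ker, map_sub, AlgHom.commutes, sub_eq_zero] at this

theorem orbitKer_le_orbitKer {x z : R →ₐ[k] k} (h : orbitKer (A := A) x ≤ RingHom.ker z) :
    orbitKer (A := A) x ≤ orbitKer (A := A) z :=
  le_orbitKer (isSubcomod_orbitKer x) h

omit [Module.Free k A] in
theorem orbitKer_le_ker_actPt (g : A →ₐ[k] k) (x : R →ₐ[k] k) :
    orbitKer (A := A) x ≤ RingHom.ker (GLin.actPt k g x) := fun f hf => by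
  rw [RingHom.mem_ker] at hf ⊢
  simp [GLin.actPt, hf]

end Bialg

section Hopf

variable {k : Type u} [CommRing k] {A : Type v} [CommRing A] [HopfAlgebra k A]
variable {R : Type w} [CommRing R] [Algebra k R] [HopfRep.Comod k A R] [GLin.IsCoactAlg k A R]

/-- The inverse of a rational point of the group. -/
def invPt (g : A →ₐ[k] k) : A →ₐ[k] k := g.comp (HopfAlgebra.antipodeAlgHom k A)

theorem mulPt_invPt (g : A →ₐ[k] k) : mulPt g (invPt g) = Bialgebra.counitAlgHom k A := by
  refine AlgHom.ext fun a => ?_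
  have h := LinearMap.congr_fun (HopfAlgebra.mul_antipode_lTensor_comul (R := k) (A := A)) a
  simp only [LinearMap.comp_apply] at h
  have e : ∀ y : A ⊗[k] A, Algebra.TensorProduct.productMap g (invPt g) y =
      g (LinearMap.mul' k A ((HopfAlgebraStruct.antipode (R := k) (A := A)).lTensor A y)) := by
    intro y
    induction y using TensorProduct.induction_on with
    | zero => simp
    | tmul _ _ => simp [invPt]
    | add y z hy hz => simp only [map_add, hy, hz]
  simp [mulPt, e, h]

theorem invPt_mulPt (g : A →ₐ[k] k) : mulPt (invPt g) g = Bialgebra.counitAlgHom k A := by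
  refine AlgHom.ext fun a => ?_
  have h := LinearMap.congr_fun (HopfAlgebra.mul_antipode_rTensor_comul (R := k) (A := A)) a
  simp only [LinearMap.comp_apply] at h
  have e : ∀ y : A ⊗[k] A, Algebra.TensorProduct.productMap (invPt g) g y =
      g (LinearMap.mul' k A ((HopfAlgebraStruct.antipode (R := k) (A := A)).rTensor A y)) := by
    intro y
    induction y using TensorProduct.induction_on with
    | zero => simp
    | tmul _ _ => simp [invPt]
    | add y z hy hz => simp only [map_add, hy, hz]
  simp [mulPt, e, h]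

theorem actPt_invPt_actPt (g : A →ₐ[k] k) (x : R →ₐ[k] k) :
    GLin.actPt k (invPt g) (GLin.actPt k g x) = x := by
  rw [actPt_actPt, mulPt_invPt, actPt_counit]

theorem actPt_actPt_invPt (g : A →ₐ[k] k) (x : R →ₐ[k] k) :
    GLin.actPt k g (GLin.actPt k (invPt g) x) = x := by
  rw [actPt_actPt, invPt_mulPt, actPt_counit]

/-- Being in the same orbit. -/
def InOrbit (A : Type v) [CommRing A] [HopfAlgebra k A] [HopfRep.Comod k A R] [GLin.IsCoactAlg k A R]
    (x y : R →ₐ[k] k) : Prop := ∃ g : A →ₐ[k] k, y = GLin.actPt k g x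

theorem InOrbit.refl (x : R →ₐ[k] k) : InOrbit A x x := ⟨_, (actPt_counit x).symm⟩

theorem InOrbit.symm {x y : R →ₐ[k] k} (h : InOrbit A x y) : InOrbit A y x := by
  obtain ⟨g, rfl⟩ := h
  exact ⟨invPt g, (actPt_invPt_actPt g x).symm⟩

theorem InOrbit.trans {x y z : R →ₐ[k] k} (h : InOrbit A x y) (h' : InOrbit A y z) :
    InOrbit A x z := by
  obtain ⟨g, rfl⟩ := h
  obtain ⟨g', rfl⟩ := h'
  exact ⟨_, actPt_actPt g' g x⟩

theorem InOrbit.orbitKer_eq [Module.Free k A] {x y : R →ₐ[k] k} (h : InOrbit A x y) :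
    orbitKer (A := A) x = orbitKer (A := A) y := by
  obtain ⟨g, hg⟩ := h.symm
  obtain ⟨g', hg'⟩ := h
  refine le_antisymm (orbitKer_le_orbitKer ?_) (orbitKer_le_orbitKer ?_)
  · exact hg' ▸ orbitKer_le_ker_actPt g' x
  · exact hg ▸ orbitKer_le_ker_actPt g y

end Hopf

section Field

variable {k : Type u} [Field k] {A : Type v} [CommRing A] [HopfAlgebra k A]
variable {R : Type w} [CommRing R] [Algebra k R] [HopfRep.Comod k A R] [GLin.IsCoactAlg k A R]

omit [HopfRep.Comod k A R] [GLin.IsCoactAlg k A R] in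
/-- A proper ideal of a finite type algebra over an algebraically closed field has a rational point. -/
theorem exists_pt [IsAlgClosed k] [Algebra.FiniteType k R] {I : Ideal R} (hI : I ≠ ⊤) :
    ∃ z : R →ₐ[k] k, I ≤ RingHom.ker z := by
  obtain ⟨m, hm, hIm⟩ := Ideal.exists_le_maximal I hI
  letI := Ideal.Quotient.field m
  haveI : Module.Finite k (R ⧸ m) := finite_of_finite_type_of_isJacobsonRing k (R ⧸ m)
  haveI : Algebra.IsIntegral k (R ⧸ m) := Algebra.IsIntegral.of_finite k (R ⧸ m)
  let e := AlgEquiv.ofBijective (Algebra.ofId k (R ⧸ m)) IsAlgClosed.algebraMap_bijective_of_isIntegral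
  refine ⟨e.symm.toAlgHom.comp (Ideal.Quotient.mkₐ k m), fun f hf => ?_⟩
  simp [RingHom.mem_ker, Ideal.Quotient.eq_zero_iff_mem.2 (hIm hf)]

/-- Linear reductivity separates disjoint stable closed subsets by invariants. -/
theorem exists_invariant_separating (hG : HopfRep.IsLinearlyReductive k A) {I J : Ideal R}
    (hI : HopfRep.IsSubcomod (k := k) (A := A) (I.restrictScalars k))
    (hJ : HopfRep.IsSubcomod (k := k) (A := A) (J.restrictScalars k)) (h : I ⊔ J = ⊤) :
    ∃ f ∈ HopfRep.fixedPts k A R, f ∈ I ∧ f - 1 ∈ J := by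
  obtain ⟨a, ha, b, hb, hab⟩ := Submodule.mem_sup.1 (h ▸ Submodule.mem_top : (1 : R) ∈ I ⊔ J)
  obtain ⟨E, hE⟩ := exists_isReynolds (A := A) R hG
  refine ⟨E a, hE.mem a, hE.map_mem hG hI ha, ?_⟩
  have hb' : E b ∈ J := hE.map_mem hG hJ hb
  have he : E a - 1 = -E b := by
    rw [← hE.apply_of_mem (one_mem_fixedPts (k := k) (A := A) (R := R)), ← hab, map_add]; abel
  rw [he]
  exact neg_mem hb'

omit [GLin.IsCoactAlg k A R] in
theorem isSubcomod_idealSup {I J : Ideal R}
    (hI : HopfRep.IsSubcomod (k := k) (A := A) (I.restrictScalars k))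
    (hJ : HopfRep.IsSubcomod (k := k) (A := A) (J.restrictScalars k)) :
    HopfRep.IsSubcomod (k := k) (A := A) ((I ⊔ J).restrictScalars k) := by
  rw [Submodule.restrictScalars_sup]; exact isSubcomod_sup hI hJ

theorem orbitKer_ne_top (x : R →ₐ[k] k) : orbitKer (A := A) x ≠ ⊤ := fun h => by
  have h1 := orbitKer_le_ker (A := A) x (h ▸ Submodule.mem_top : (1 : R) ∈ _)
  simp at h1

/-- If the invariants agree at two points, their orbit closures meet. -/
theorem sup_orbitKer_ne_top (hG : HopfRep.IsLinearlyReductive k A) {x y : R →ₐ[k] k}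
    (h : ∀ f ∈ HopfRep.fixedPts k A R, x f = y f) :
    orbitKer (A := A) x ⊔ orbitKer (A := A) y ≠ ⊤ := by
  intro ht
  obtain ⟨f, hf, hfI, hfJ⟩ :=
    exists_invariant_separating hG (isSubcomod_orbitKer x) (isSubcomod_orbitKer y) ht
  have h1 : x f = 0 := orbitKer_le_ker x hfI
  have h2 : y (f - 1) = 0 := orbitKer_le_ker y hfJ
  rw [map_sub, map_one, ← h f hf, h1, zero_sub, neg_eq_zero] at h2
  exact one_ne_zero h2

theorem invariants_eq_iff (hG : HopfRep.IsLinearlyReductive k A) [IsAlgClosed k]
    [Algebra.FiniteType k R] (x y : R →ₐ[k] k) :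
    (∀ f ∈ HopfRep.fixedPts k A R, x f = y f) ↔
      ∃ z : R →ₐ[k] k, orbitKer (A := A) x ≤ RingHom.ker z ∧ orbitKer (A := A) y ≤ RingHom.ker z := by
  constructor
  · intro h
    obtain ⟨z, hz⟩ := exists_pt (k := k) (sup_orbitKer_ne_top hG h)
    exact ⟨z, le_sup_left.trans hz, le_sup_right.trans hz⟩
  · rintro ⟨z, hx, hy⟩ f hf
    rw [← eq_on_fixedPts hx hf, eq_on_fixedPts hy hf]

/-- A point of the affine quotient vanishing on the invariants in a stable ideal lifts to that ideal. -/
theorem exists_pt_over (hG : HopfRep.IsLinearlyReductive k A) [IsAlgClosed k]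
    [Algebra.FiniteType k R] {I : Ideal R}
    (hI : HopfRep.IsSubcomod (k := k) (A := A) (I.restrictScalars k))
    (φ : GLin.invariants k A R →ₐ[k] k)
    (hφ : ∀ f : GLin.invariants k A R, (f : R) ∈ I → φ f = 0) :
    ∃ x : R →ₐ[k] k, I ≤ RingHom.ker x ∧ ∀ f : GLin.invariants k A R, x f = φ f := by
  let T : Ideal R := (RingHom.ker φ).map (GLin.invariants k A R).val.toRingHom
  have hT : HopfRep.IsSubcomod (k := k) (A := A) (T.restrictScalars k) := by
    have hsub : HopfRep.IsSubcomod (k := k) (A := A)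
        (((RingHom.ker φ).restrictScalars k).map (GLin.invariants k A R).val.toLinearMap) := by
      refine (isSubcomod_iff _).2 ?_
      rintro ψ _ ⟨f, hf, rfl⟩
      rw [mem_fixedPts_iff.1 (show (GLin.invariants k A R).val.toLinearMap f ∈
        HopfRep.fixedPts k A R from f.2) ψ]
      exact Submodule.smul_mem _ _ ⟨f, hf, rfl⟩
    have e : T = Ideal.span
        ((((RingHom.ker φ).restrictScalars k).map (GLin.invariants k A R).val.toLinearMap : Submodule k R) : Set R) := by
      simp only [T, Submodule.map_coe, Submodule.coe_restrictScalars]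
      rfl
    rw [e]
    exact isSubcomod_idealSpan hsub
  have hne : T ⊔ I ≠ ⊤ := by
    intro h
    obtain ⟨f, hf, hfT, hfI⟩ := exists_invariant_separating hG hT hI h
    have h1 : (⟨f, hf⟩ : GLin.invariants k A R) ∈ RingHom.ker φ := by
      rw [← Invariants.comap_map_eq hG (RingHom.ker φ)]; exact hfT
    have h2 := hφ (⟨f, hf⟩ - 1) hfI
    rw [map_sub, map_one, RingHom.mem_ker.1 h1, zero_sub, neg_eq_zero] at h2
    exact one_ne_zero h2
  obtain ⟨x, hx⟩ := exists_pt (k := k) hne
  refine ⟨x, le_sup_right.trans hx, fun f => ?_⟩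
  have hm : f - algebraMap k _ (φ f) ∈ RingHom.ker φ := by simp [RingHom.mem_ker]
  have h : x ((f - algebraMap k _ (φ f) : GLin.invariants k A R) : R) = 0 :=
    hx (Submodule.mem_sup_left (Ideal.mem_map_of_mem _ hm))
  simpa [sub_eq_zero] using h

/-- If the orbit morphism pulls a prime back to the kernel of `z`, then `z` lies in the orbit. -/
theorem inOrbit_of_mem_range [IsAlgClosed k] [Algebra.FiniteType k A] {x z : R →ₐ[k] k}
    {q : Ideal A} [q.IsPrime] (h : q.comap (GLin.orbitHom k A x) = RingHom.ker z) :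
    InOrbit A x z := by
  obtain ⟨g, hg⟩ := exists_pt (k := k) (R := A) (Ideal.IsPrime.ne_top (I := q) ‹_›)
  refine ⟨g, AlgHom.ext fun f => ?_⟩
  have h1 : f - algebraMap k R (z f) ∈ q.comap (GLin.orbitHom k A x) := by
    rw [h]; simp [RingHom.mem_ker]
  have h2 : g (GLin.orbitHom k A x (f - algebraMap k R (z f))) = 0 := hg h1
  rw [map_sub, AlgHom.commutes, map_sub, AlgHom.commutes, sub_eq_zero] at h2
  exact h2.symm

/-- A closed orbit contains every rational point of its closure. -/
theorem inOrbit_of_isClosedOrbit [IsAlgClosed k] [Algebra.FiniteType k A] {x z : R →ₐ[k] k}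
    (hx : GLin.IsClosedOrbit k A x) (h : orbitKer (A := A) x ≤ RingHom.ker z) : InOrbit A x z := by
  haveI : (RingHom.ker z).IsPrime := RingHom.ker_isPrime z
  have hmem : (⟨RingHom.ker z, inferInstance⟩ : PrimeSpectrum R) ∈
      Set.range (PrimeSpectrum.comap (GLin.orbitHom k A x).toRingHom) := by
    rw [← hx.closure_eq, PrimeSpectrum.closure_range_comap]
    exact h
  obtain ⟨q, hq⟩ := hmem
  exact inOrbit_of_mem_range (q := q.asIdeal) (congrArg PrimeSpectrum.asIdeal hq)

/-- An orbit containing all rational points of its closure is closed. -/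
theorem isClosedOrbit_of_forall [IsAlgClosed k] [Algebra.FiniteType k A] [Algebra.FiniteType k R]
    {x : R →ₐ[k] k} (h : ∀ z : R →ₐ[k] k, orbitKer (A := A) x ≤ RingHom.ker z → InOrbit A x z) :
    GLin.IsClosedOrbit k A x := by
  haveI : IsNoetherianRing R := Algebra.FiniteType.isNoetherianRing k R
  haveI : IsJacobsonRing R := isJacobsonRing_of_finiteType (A := k)
  set φ := (GLin.orbitHom k A x).toRingHom
  have hfp : φ.FinitePresentation := by
    refine RingHom.FinitePresentation.of_finiteType.1 ?_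
    refine RingHom.FiniteType.of_comp_finiteType (f := algebraMap k R) ?_
    rw [show φ.comp (algebraMap k R) = algebraMap k A from (GLin.orbitHom k A x).comp_algebraMap]
    exact RingHom.finiteType_algebraMap.2 inferInstance
  set S := Set.range (PrimeSpectrum.comap φ) with hS
  suffices PrimeSpectrum.zeroLocus (RingHom.ker φ : Set R) ⊆ S by
    have he : S = PrimeSpectrum.zeroLocus (RingHom.ker φ : Set R) :=
      le_antisymm (subset_closure.trans (PrimeSpectrum.closure_range_comap φ).subset) this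
    change IsClosed S
    rw [he]
    exact PrimeSpectrum.isClosed_zeroLocus _
  by_contra hc
  obtain ⟨p, hp, hpS⟩ := Set.not_subset.1 hc
  have hC : Topology.IsConstructible (Sᶜ) := (PrimeSpectrum.isConstructible_range_comap hfp).compl
  obtain ⟨D, hD⟩ := PrimeSpectrum.exists_constructibleSetData_iff.2 hC
  have hpD : p ∈ D.toSet := hD ▸ hpS
  simp only [PrimeSpectrum.ConstructibleSetData.toSet, Set.mem_iUnion] at hpD
  obtain ⟨c, hc, hpc⟩ := hpD
  obtain ⟨q, ⟨hqc, hqZ⟩, hq⟩ := nonempty_inter_closedPoints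
    (Z := c.toSet ∩ PrimeSpectrum.zeroLocus (RingHom.ker φ : Set R)) ⟨p, hpc, hp⟩
    (((PrimeSpectrum.isClosed_zeroLocus _).isLocallyClosed.inter
      (PrimeSpectrum.isClosed_zeroLocus _).isOpen_compl.isLocallyClosed).inter
        (PrimeSpectrum.isClosed_zeroLocus _).isLocallyClosed)
  have hqS : q ∈ Sᶜ := by
    rw [← hD]
    simp only [PrimeSpectrum.ConstructibleSetData.toSet, Set.mem_iUnion]
    exact ⟨c, hc, hqc⟩
  have hqmax := (PrimeSpectrum.isClosed_singleton_iff_isMaximal q).1 hq
  obtain ⟨z, hz⟩ := exists_pt (k := k) hqmax.ne_top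
  have hzq : q.asIdeal = RingHom.ker z := hqmax.eq_of_le (RingHom.ker_ne_top _) hz
  obtain ⟨g, hg⟩ := h z (le_trans hqZ hzq.le)
  refine hqS ⟨⟨RingHom.ker g, RingHom.ker_isPrime g⟩, PrimeSpectrum.ext ?_⟩
  rw [hzq, hg]
  rfl

theorem isClosedOrbit_iff [IsAlgClosed k] [Algebra.FiniteType k A] [Algebra.FiniteType k R]
    (x : R →ₐ[k] k) :
    GLin.IsClosedOrbit k A x ↔
      ∀ z : R →ₐ[k] k, orbitKer (A := A) x ≤ RingHom.ker z → InOrbit A x z :=
  ⟨fun hx _ => inOrbit_of_isClosedOrbit hx, isClosedOrbit_of_forall⟩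

/-- Two points with the same orbit closure are in the same orbit. -/
theorem inOrbit_of_orbitKer_eq [IsAlgClosed k] [Algebra.FiniteType k A] {y z : R →ₐ[k] k}
    (h : orbitKer (A := A) y = orbitKer (A := A) z) : InOrbit A y z := by
  set φ := (GLin.orbitHom k A y).toRingHom
  set ψ := (GLin.orbitHom k A z).toRingHom
  obtain ⟨p, hp⟩ := Ideal.nonempty_minimalPrimes (orbitKer_ne_top (A := A) y)
  obtain ⟨q₁, hq₁, -, hq₁'⟩ := Ideal.exists_comap_eq_of_mem_minimalPrimes φ (I := ⊥) p hp
  obtain ⟨q₂, hq₂, -, hq₂'⟩ := Ideal.exists_comap_eq_of_mem_minimalPrimes ψ (I := ⊥) p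
    (by rw [h] at hp; exact hp)
  haveI := hp.isPrime
  haveI := hq₁
  haveI := hq₂
  let e₁ : p.ResidueField →+* q₁.ResidueField := Ideal.ResidueField.map p q₁ φ hq₁'.symm
  let e₂ : p.ResidueField →+* q₂.ResidueField := Ideal.ResidueField.map p q₂ ψ hq₂'.symm
  letI := e₁.toAlgebra
  letI := e₂.toAlgebra
  letI : Algebra k (q₁.ResidueField ⊗[p.ResidueField] q₂.ResidueField) :=
    Algebra.compHom _ (algebraMap k p.ResidueField)
  have hk₁ : ∀ c : k, algebraMap A q₁.ResidueField (algebraMap k A c) =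
      e₁ (algebraMap k p.ResidueField c) := by
    intro c
    rw [IsScalarTower.algebraMap_apply k R p.ResidueField, Ideal.ResidueField.map_algebraMap]
    exact congrArg _ ((GLin.orbitHom k A y).commutes c).symm
  have hk₂ : ∀ c : k, algebraMap A q₂.ResidueField (algebraMap k A c) =
      e₂ (algebraMap k p.ResidueField c) := by
    intro c
    rw [IsScalarTower.algebraMap_apply k R p.ResidueField, Ideal.ResidueField.map_algebraMap]
    exact congrArg _ ((GLin.orbitHom k A z).commutes c).symm
  let i₁ : A →ₐ[k] q₁.ResidueField ⊗[p.ResidueField] q₂.ResidueField :=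
    { ((Algebra.TensorProduct.includeLeftRingHom : q₁.ResidueField →+* _).comp
        (algebraMap A q₁.ResidueField)) with
      commutes' := fun c => by
        change Algebra.TensorProduct.includeLeftRingHom (algebraMap A q₁.ResidueField (algebraMap k A c)) = _
        rw [hk₁]
        rfl }
  let i₂ : A →ₐ[k] q₁.ResidueField ⊗[p.ResidueField] q₂.ResidueField :=
    { ((Algebra.TensorProduct.includeRight : q₂.ResidueField →ₐ[p.ResidueField] _).toRingHom.comp
        (algebraMap A q₂.ResidueField)) with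
      commutes' := fun c => by
        change Algebra.TensorProduct.includeRight (algebraMap A q₂.ResidueField (algebraMap k A c)) = _
        rw [hk₂]
        exact AlgHom.commutes _ _ }
  have key : ∀ f : R, i₁ (φ f) = i₂ (ψ f) := by
    intro f
    change Algebra.TensorProduct.includeLeftRingHom (algebraMap A q₁.ResidueField (φ f)) =
      Algebra.TensorProduct.includeRight (algebraMap A q₂.ResidueField (ψ f))
    rw [← Ideal.ResidueField.map_algebraMap p q₁ φ hq₁'.symm,
      ← Ideal.ResidueField.map_algebraMap p q₂ ψ hq₂'.symm]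
    exact (AlgHom.commutes (Algebra.TensorProduct.includeLeft :
      q₁.ResidueField →ₐ[p.ResidueField] _) _).trans
        (AlgHom.commutes (Algebra.TensorProduct.includeRight :
          q₂.ResidueField →ₐ[p.ResidueField] q₁.ResidueField ⊗[p.ResidueField] q₂.ResidueField) _).symm
  haveI : Algebra.FiniteType k (A ⊗[k] A) :=
    Algebra.FiniteType.trans (S := A) inferInstance (Algebra.FiniteType.baseChange A)
  let Ψ : A ⊗[k] A →ₐ[k] q₁.ResidueField ⊗[p.ResidueField] q₂.ResidueField :=
    Algebra.TensorProduct.productMap i₁ i₂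
  obtain ⟨w, hw⟩ := exists_pt (k := k) (RingHom.ker_ne_top Ψ)
  have hw' : ∀ f : R, w (φ f ⊗ₜ[k] 1) = w (1 ⊗ₜ[k] ψ f) := by
    intro f
    rw [← sub_eq_zero, ← map_sub]
    refine hw ?_
    rw [RingHom.mem_ker, map_sub, sub_eq_zero]
    simp [Ψ, key f]
  have h1 : InOrbit A y (GLin.actPt k (w.comp Algebra.TensorProduct.includeLeft) y) := ⟨_, rfl⟩
  have h2 : InOrbit A z (GLin.actPt k (w.comp Algebra.TensorProduct.includeRight) z) := ⟨_, rfl⟩
  have he : GLin.actPt k (w.comp Algebra.TensorProduct.includeLeft) y =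
      GLin.actPt k (w.comp Algebra.TensorProduct.includeRight) z := AlgHom.ext hw'
  exact h1.trans (he ▸ h2.symm)

end Field

end

end Groth.Agent.Lib.Comod.Orbits
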