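import Groth.Agent.Lib.Comod.Basic
import Groth.Agent.Lib.Comod.Orbits
import Mathlib.Algebra.MvPolynomial.PDeriv
import Mathlib.RingTheory.Filtration
import Mathlib.RingTheory.Nullstellensatz
import Mathlib.RingTheory.FiniteType

/-! Cartier's theorem: in characteristic zero a commutative Hopf algebra of finite type over an
algebraically closed field is reduced. -/

set_option autoImplicit false
universe u

open TensorProduct MvPolynomial
open Groth.Agent.Lib.Comod.Basic

namespace Groth.Agent.Lib.Comod.Cartier

variable {k : Type u} [Field k]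
variable {A : Type u} [CommRing A] [Bialgebra k A]

local notation "ε" => Bialgebra.counitAlgHom k A

/-- `τ` is a point derivation at the neutral point. -/
def IsTangent (τ : A →ₗ[k] k) : Prop := ∀ a b : A, τ (a * b) = ε a * τ b + τ a * ε b

/-- The left invariant derivation attached to a tangent vector. -/
noncomputable def inv (τ : A →ₗ[k] k) : A →ₗ[k] A :=
  contract (V := A) τ ∘ₗ CoalgebraStruct.comul (R := k) (A := A)

theorem contract_mul (τ : A →ₗ[k] k) (hτ : IsTangent τ) (u v : A ⊗[k] A) :
    contract (V := A) τ (u * v) =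
      contract (V := A) (CoalgebraStruct.counit (R := k)) u * contract (V := A) τ v +
      contract (V := A) τ u * contract (V := A) (CoalgebraStruct.counit (R := k)) v := by
  induction u using TensorProduct.induction_on with
  | zero => simp
  | add a b ha hb => simp only [add_mul, map_add, ha, hb]; abel
  | tmul a b =>
    induction v using TensorProduct.induction_on with
    | zero => simp
    | add c d hc hd => simp only [mul_add, add_mul, map_add, hc, hd]; abel
    | tmul c d =>
      simp only [Algebra.TensorProduct.tmul_mul_tmul, contract_tmul, hτ b d,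
        Bialgebra.counitAlgHom_apply, smul_mul_assoc, mul_smul_comm, smul_smul, add_smul]
      ring_nf

theorem contract_counit_comul (a : A) :
    contract (V := A) (CoalgebraStruct.counit (R := k)) (CoalgebraStruct.comul (R := k) a) = a := by
  have h := LinearMap.congr_fun (Coalgebra.lTensor_counit_comp_comul (R := k) (A := A)) a
  simp only [LinearMap.comp_apply] at h
  simp [contract, h]

theorem inv_mul (τ : A →ₗ[k] k) (hτ : IsTangent τ) (a b : A) :
    inv τ (a * b) = a * inv τ b + inv τ a * b := by
  simp [inv, Bialgebra.comul_mul, contract_mul τ hτ, contract_counit_comul]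

theorem inv_algebraMap (τ : A →ₗ[k] k) (hτ : IsTangent τ) (c : k) :
    inv τ (algebraMap k A c) = 0 := by
  have h1 : inv τ (1 : A) = 0 := by
    have h := inv_mul τ hτ 1 1
    simp only [one_mul, mul_one] at h
    simpa using h
  rw [Algebra.algebraMap_eq_smul_one, map_smul, h1, smul_zero]

theorem counit_inv (τ : A →ₗ[k] k) (a : A) : ε (inv τ a) = τ a := by
  have key : ∀ w : A ⊗[k] A, ε (contract (V := A) τ w) =
      τ ((TensorProduct.lid k A) ((CoalgebraStruct.counit (R := k) (A := A)).rTensor A w)) := fun w => by
    induction w using TensorProduct.induction_on with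
    | zero => simp
    | add a b ha hb => simp only [map_add, ha, hb]
    | tmul a b => simp [Bialgebra.counitAlgHom_apply, mul_comm]
  rw [inv, LinearMap.comp_apply, key]
  simp

/-- The augmentation ideal. -/
noncomputable def aug : Ideal A := RingHom.ker ε

theorem mem_aug {a : A} : a ∈ aug (k := k) ↔ ε a = 0 := RingHom.mem_ker

theorem sub_counit_mem (a : A) : a - algebraMap k A (ε a) ∈ aug (k := k) := by
  simp [mem_aug]

/-- `k + m²`. -/
noncomputable def low : Submodule k A := Submodule.span k {(1 : A)} ⊔ (aug (k := k) ^ 2).restrictScalars k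

theorem tangent_of_low (φ : A →ₗ[k] k) (hφ : ∀ a ∈ low (k := k) (A := A), φ a = 0) : IsTangent φ := by
  intro a b
  have h1 : φ (1 : A) = 0 := hφ _ (Submodule.mem_sup_left (Submodule.subset_span rfl))
  have h2 : φ ((a - algebraMap k A (ε a)) * (b - algebraMap k A (ε b))) = 0 :=
    hφ _ (Submodule.mem_sup_right (by
      change _ ∈ aug (k := k) ^ 2
      rw [pow_two]; exact Ideal.mul_mem_mul (sub_counit_mem a) (sub_counit_mem b)))
  have h3 : a * b = (a - algebraMap k A (ε a)) * (b - algebraMap k A (ε b)) + ε b • a + ε a • b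
      - (ε a * ε b) • (1 : A) := by
    simp only [Algebra.smul_def, map_mul]; ring
  rw [h3, map_sub, map_add, map_add, map_smul, map_smul, map_smul, h1, h2]
  simp [mul_comm, add_comm]

theorem algebraMap_mem_low (c : k) : algebraMap k A c ∈ low (k := k) (A := A) := by
  rw [Algebra.algebraMap_eq_smul_one]
  exact Submodule.smul_mem _ c (Submodule.mem_sup_left (Submodule.subset_span rfl))

section Coord

variable {ι : Type u} (bas : Module.Basis ι k (A ⧸ low (k := k) (A := A)))

/-- The tangent vectors of the dual basis. -/
noncomputable def tau (i : ι) : A →ₗ[k] k := (bas.coord i) ∘ₗ (low (k := k) (A := A)).mkQ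

theorem isTangent_tau (i : ι) : IsTangent (tau bas i) :=
  tangent_of_low _ fun a ha => by
    rw [tau, LinearMap.comp_apply, Submodule.mkQ_apply, (Submodule.Quotient.mk_eq_zero _).2 ha, map_zero]

/-- Local parameters at the neutral point. -/
noncomputable def par (i : ι) : A :=
  (fun a => a - algebraMap k A (ε a)) (Function.surjInv (low (k := k) (A := A)).mkQ_surjective (bas i))

theorem par_mem (i : ι) : par bas i ∈ aug (k := k) := sub_counit_mem _

theorem mkQ_par (i : ι) : (low (k := k) (A := A)).mkQ (par bas i) = bas i := by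
  simp only [par]
  rw [map_sub, Function.surjInv_eq (low (k := k) (A := A)).mkQ_surjective (bas i),
    Submodule.mkQ_apply, (Submodule.Quotient.mk_eq_zero _).2 (algebraMap_mem_low _), sub_zero]

theorem tau_par [DecidableEq ι] (i j : ι) :
    tau bas i (par bas j) = if j = i then 1 else 0 := by
  rw [tau, LinearMap.comp_apply, mkQ_par bas, Module.Basis.coord_apply, Module.Basis.repr_self,
    Finsupp.single_apply]

variable (k ι) in
/-- Linear forms. -/
noncomputable def linForms : Submodule k (MvPolynomial ι k) :=
  Submodule.span k (Set.range X)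

/-- Evaluation at the local parameters. -/
noncomputable def ev : MvPolynomial ι k →ₐ[k] A := aeval (par bas)

theorem ev_mem (n : ℕ) (f : MvPolynomial ι k) (hf : f ∈ linForms k ι ^ n) :
    ev bas f ∈ aug (k := k) ^ n := by
  induction n generalizing f with
  | zero => simp
  | succ n ih =>
    rw [pow_succ] at hf
    refine Submodule.mul_induction_on hf (fun g hg h hh => ?_) fun g h hg hh => by
      rw [map_add]; exact add_mem hg hh
    rw [map_mul, pow_succ]
    refine Ideal.mul_mem_mul (ih g hg) ?_
    unfold linForms at hh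
    induction hh using Submodule.span_induction with
    | mem y hy => obtain ⟨i, rfl⟩ := hy; simpa [ev] using par_mem bas i
    | zero => simp
    | add y z _ _ hy hz => rw [map_add]; exact add_mem hy hz
    | smul c y _ hy => rw [map_smul, Algebra.smul_def]; exact Ideal.mul_mem_left _ _ hy

theorem aug_pow_le (n : ℕ) (a : A) (ha : a ∈ aug (k := k) ^ n) :
    ∃ f ∈ linForms k ι ^ n, a - ev bas f ∈ aug (k := k) ^ (n + 1) := by
  induction n generalizing a with
  | zero =>
    refine ⟨C (ε a), ?_, by simpa [ev] using sub_counit_mem a⟩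
    rw [pow_zero, Submodule.one_eq_span]
    exact Submodule.mem_span_singleton.2 ⟨ε a, by simp [smul_eq_C_mul]⟩
  | succ n ih =>
    rw [pow_succ] at ha
    refine Submodule.mul_induction_on ha (fun b hb c hc => ?_) fun b c hb hc => ?_
    · obtain ⟨f, hf, hbf⟩ := ih b hb
      obtain ⟨g, hg, hcg⟩ : ∃ g ∈ linForms k ι, c - ev bas g ∈ aug (k := k) ^ 2 := by
        have hspan : (low (k := k) (A := A)).mkQ c ∈ Submodule.span k (Set.range (bas)) := by
          rw [bas.span_eq]; trivial
        have : ∀ z ∈ Submodule.span k (Set.range (bas)),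
            ∃ g ∈ linForms k ι, (low (k := k) (A := A)).mkQ (ev bas g) = z := by
          intro z hz
          induction hz using Submodule.span_induction with
          | mem y hy =>
            obtain ⟨i, rfl⟩ := hy
            exact ⟨X i, Submodule.subset_span ⟨i, rfl⟩, by rw [ev, aeval_X, mkQ_par bas]⟩
          | zero => exact ⟨0, zero_mem _, by simp⟩
          | add y z _ _ hy hz =>
            obtain ⟨g, hg, rfl⟩ := hy
            obtain ⟨h, hh, rfl⟩ := hz
            exact ⟨g + h, add_mem hg hh, by simp⟩
          | smul t y _ hy =>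
            obtain ⟨g, hg, rfl⟩ := hy
            exact ⟨t • g, Submodule.smul_mem _ t hg, by simp⟩
        obtain ⟨g, hg, hgc⟩ := this _ hspan
        refine ⟨g, hg, ?_⟩
        have hmem := (Submodule.Quotient.eq _).1 hgc.symm
        obtain ⟨y, hy, z, hz, hyz⟩ := Submodule.mem_sup.1 hmem
        obtain ⟨t, rfl⟩ := Submodule.mem_span_singleton.1 hy
        have h1 : ε (c - ev bas g) = 0 := by
          rw [map_sub, mem_aug.1 hc, zero_sub, neg_eq_zero, ← mem_aug]
          simpa using ev_mem bas 1 g (by simpa using hg)
        have hz0 : ε z = 0 := mem_aug.1 (Ideal.pow_le_self two_ne_zero hz)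
        rw [← hyz, map_add, map_smul, map_one, hz0, add_zero, smul_eq_mul, mul_one] at h1
        rw [← hyz, h1, zero_smul, zero_add]
        exact hz
      refine ⟨f * g, by rw [pow_succ]; exact Submodule.mul_mem_mul hf hg, ?_⟩
      have hev : ev bas f ∈ aug (k := k) ^ n := ev_mem bas n f hf
      rw [map_mul, show b * c - ev bas f * ev bas g = (b - ev bas f) * c + ev bas f * (c - ev bas g) by ring]
      refine add_mem ?_ ?_
      · rw [pow_succ _ (n + 1)]; exact Ideal.mul_mem_mul hbf hc
      · rw [show n + 1 + 1 = n + 2 from rfl, pow_add]; exact Ideal.mul_mem_mul hev hcg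
    · obtain ⟨f, hf, h1⟩ := hb
      obtain ⟨g, hg, h2⟩ := hc
      exact ⟨f + g, add_mem hf hg, by rw [map_add, add_sub_add_comm]; exact add_mem h1 h2⟩

theorem inv_pow_mem (τ : A →ₗ[k] k) (hτ : IsTangent τ) (n : ℕ) (a : A)
    (ha : a ∈ aug (k := k) ^ (n + 1)) : inv τ a ∈ aug (k := k) ^ n := by
  induction n generalizing a with
  | zero => simp
  | succ n ih =>
    rw [pow_succ] at ha
    refine Submodule.mul_induction_on ha (fun b hb c hc => ?_) fun b c hb hc => by
      rw [map_add]; exact add_mem hb hc
    rw [inv_mul τ hτ]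
    refine add_mem (Ideal.mul_mem_right _ _ hb) ?_
    rw [pow_succ]
    exact Ideal.mul_mem_mul (ih b hb) hc

theorem pderiv_mem_one [DecidableEq ι] (i : ι) (h : MvPolynomial ι k) (hh : h ∈ linForms k ι) :
    pderiv i h ∈ linForms k ι ^ 0 ∧
      inv (tau bas i) (ev bas h) - ev bas (pderiv i h) ∈ aug (k := k) ^ 1 := by
  unfold linForms at hh
  induction hh using Submodule.span_induction with
  | mem y hy =>
    obtain ⟨j, rfl⟩ := hy
    refine ⟨?_, ?_⟩
    · rw [pow_zero, Submodule.one_eq_span, pderiv_X, Pi.single_apply]
      split_ifs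
      · exact Submodule.subset_span rfl
      · exact zero_mem _
    · rw [pow_one, mem_aug, map_sub, counit_inv, ev, aeval_X, tau_par, pderiv_X, Pi.single_apply]
      by_cases hj : j = i
      · simp [hj]
      · simp [hj, Ne.symm hj]
  | zero => simp
  | add y z _ _ hy hz =>
    refine ⟨by rw [map_add]; exact add_mem hy.1 hz.1, ?_⟩
    simp only [map_add, add_sub_add_comm]; exact add_mem hy.2 hz.2
  | smul c y _ hy =>
    refine ⟨by rw [Derivation.map_smul]; exact Submodule.smul_mem _ c hy.1, ?_⟩
    simp only [map_smul, Derivation.map_smul, ← smul_sub]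
    rw [Algebra.smul_def]
    exact Ideal.mul_mem_left _ _ hy.2

theorem pderiv_mem [DecidableEq ι] (i : ι) (n : ℕ) (f : MvPolynomial ι k)
    (hf : f ∈ linForms k ι ^ (n + 1)) :
    pderiv i f ∈ linForms k ι ^ n ∧
      inv (tau bas i) (ev bas f) - ev bas (pderiv i f) ∈ aug (k := k) ^ (n + 1) := by
  induction n generalizing f with
  | zero => exact pderiv_mem_one bas i f (by simpa using hf)
  | succ n ih =>
    rw [pow_succ] at hf
    refine Submodule.mul_induction_on hf (fun g hg h hh => ?_) fun g h hg hh => ?_
    · obtain ⟨hg1, hg2⟩ := ih g hg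
      obtain ⟨hb1, hb2⟩ := pderiv_mem_one bas i h hh
      rw [pderiv_mul]
      refine ⟨add_mem ?_ ?_, ?_⟩
      · rw [pow_succ]; exact Submodule.mul_mem_mul hg1 hh
      · have := Submodule.mul_mem_mul hg hb1
        rwa [pow_zero, mul_one] at this
      · simp only [map_mul, map_add, inv_mul (tau bas i) (isTangent_tau bas i)]
        rw [show ev bas g * inv (tau bas i) (ev bas h) + inv (tau bas i) (ev bas g) * ev bas h -
            (ev bas (pderiv i g) * ev bas h + ev bas g * ev bas (pderiv i h)) =
            ev bas g * (inv (tau bas i) (ev bas h) - ev bas (pderiv i h)) +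
            (inv (tau bas i) (ev bas g) - ev bas (pderiv i g)) * ev bas h by ring, pow_succ]
        exact add_mem (Ideal.mul_mem_mul (ev_mem bas _ g hg) (by simpa using hb2))
          (Ideal.mul_mem_mul hg2 (by simpa using ev_mem bas 1 h (by simpa using hh)))
    · refine ⟨by rw [map_add]; exact add_mem hg.1 hh.1, ?_⟩
      simp only [map_add, add_sub_add_comm]; exact add_mem hg.2 hh.2

theorem constantCoeff_linForms (n : ℕ) (f : MvPolynomial ι k)
    (hf : f ∈ linForms k ι ^ (n + 1)) : constantCoeff f = 0 := by
  rw [pow_succ] at hf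
  refine Submodule.mul_induction_on hf (fun g hg h hh => ?_) fun g h hg hh => by simp [hg, hh]
  have : constantCoeff h = 0 := by
    unfold linForms at hh
    induction hh using Submodule.span_induction with
    | mem y hy => obtain ⟨i, rfl⟩ := hy; simp
    | zero => simp
    | add y z _ _ hy hz => simp [hy, hz]
    | smul c y _ hy => simp [hy, constantCoeff_eq]
  simp [this]

/-- The associated graded of `A` at the neutral point is a polynomial ring. -/
theorem eq_zero_of_ev_mem [CharZero k] (n : ℕ) (f : MvPolynomial ι k)
    (hf : f ∈ linForms k ι ^ n) (hev : ev bas f ∈ aug (k := k) ^ (n + 1)) : f = 0 := by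
  classical
  induction n generalizing f with
  | zero =>
    rw [pow_zero, Submodule.one_eq_span] at hf
    obtain ⟨c, rfl⟩ := Submodule.mem_span_singleton.1 hf
    rw [zero_add, pow_one, mem_aug] at hev
    simp at hev
    simp [hev]
  | succ n ih =>
    have hd : ∀ i, pderiv i f = 0 := fun i => by
      obtain ⟨h1, h2⟩ := pderiv_mem bas i n f hf
      refine ih _ h1 ?_
      have h3 := inv_pow_mem (tau bas i) (isTangent_tau bas i) (n + 1) _ hev
      have := sub_mem h3 h2
      rwa [sub_sub_cancel] at this
    ext d
    rw [coeff_zero]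
    by_cases h0 : d = 0
    · subst h0
      exact constantCoeff_linForms n f hf
    obtain ⟨i, hi⟩ : ∃ i, d i ≠ 0 := by
      by_contra hcon
      push_neg at hcon
      exact h0 (Finsupp.ext hcon)
    have h := congrArg (coeff (d - Finsupp.single i 1)) (hd i)
    rw [coeff_pderiv, coeff_zero] at h
    have hadd : d - Finsupp.single i 1 + Finsupp.single i 1 = d := by
      ext j
      by_cases hj : i = j
      · subst hj; simp; omega
      · simp [Finsupp.single_eq_of_ne (Ne.symm hj)]
    rw [hadd] at h
    simpa [Nat.cast_add_one_ne_zero] using h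

end Coord

/-- Nilpotents lie in all powers of the augmentation ideal. -/
theorem nilpotent_mem_aug_pow [CharZero k] (a : A) (ha : IsNilpotent a) (n : ℕ) :
    a ∈ aug (k := k) ^ n := by
  let bas := Module.Basis.ofVectorSpace k (A ⧸ low (k := k) (A := A))
  induction n with
  | zero => simp
  | succ n ih =>
    obtain ⟨f, hf, haf⟩ := aug_pow_le bas n a ih
    suffices hf0 : f = 0 by simpa [hf0] using haf
    obtain ⟨N, hN⟩ := ha
    have hmul : ∀ j : ℕ, a ^ j - ev bas f ^ j ∈ aug (k := k) ^ (n * j + 1) := fun j => by
      induction j with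
      | zero => simp
      | succ j ihj =>
        rw [show a ^ (j + 1) - ev bas f ^ (j + 1) = (a ^ j - ev bas f ^ j) * a + ev bas f ^ j * (a - ev bas f) by ring]
        refine add_mem ?_ ?_
        · rw [show n * (j + 1) + 1 = (n * j + 1) + n by ring, pow_add]
          exact Ideal.mul_mem_mul ihj ih
        · rw [show n * (j + 1) + 1 = n * j + (n + 1) by ring, pow_add]
          refine Ideal.mul_mem_mul ?_ haf
          rw [pow_mul]
          exact Ideal.pow_mem_pow (ev_mem bas n f hf) j
    have h := hmul N
    rw [hN, zero_sub, neg_mem_iff, ← map_pow] at h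
    refine eq_zero_of_pow_eq_zero (eq_zero_of_ev_mem bas (n * N) _ ?_ h)
    rw [pow_mul]
    exact Submodule.pow_mem_pow _ hf N

section Hopf

variable {H : Type u} [CommRing H] [HopfAlgebra k H]

/-- Translation by a point. -/
noncomputable def trans (g : H →ₐ[k] k) : H →ₐ[k] H :=
  (Algebra.TensorProduct.productMap (AlgHom.id k H) ((Algebra.ofId k H).comp g)).comp
    (Bialgebra.comulAlgHom k H)

theorem trans_apply (g : H →ₐ[k] k) (a : H) : trans g a = dact H g.toLinearMap a := by
  have key : ∀ w : H ⊗[k] H,
      Algebra.TensorProduct.productMap (AlgHom.id k H) ((Algebra.ofId k H).comp g) w =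
      contract (V := H) g.toLinearMap w := fun w => by
    induction w using TensorProduct.induction_on with
    | zero => simp
    | add a b ha hb => simp only [map_add, ha, hb]
    | tmul a b => simp [Algebra.ofId_apply, Algebra.smul_def, mul_comm]
  rw [trans, AlgHom.comp_apply, key]
  rfl

theorem counit_trans (g : H →ₐ[k] k) (a : H) : Bialgebra.counitAlgHom k H (trans g a) = g a := by
  rw [trans_apply]
  exact counit_inv g.toLinearMap a

theorem trans_invPt (g : H →ₐ[k] k) (a : H) :
    trans (Groth.Agent.Lib.Comod.Orbits.invPt g) (trans g a) = a := by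
  rw [trans_apply, trans_apply, dact_dact,
    ← Groth.Agent.Lib.Comod.Orbits.mulPt_toLinearMap,
    Groth.Agent.Lib.Comod.Orbits.invPt_mulPt]
  exact dact_counit_apply H a

/-- Cartier's theorem. -/
theorem isReduced [CharZero k] [IsAlgClosed k] [Algebra.FiniteType k H] : IsReduced H := by
  refine ⟨fun a ha => ?_⟩
  haveI : IsNoetherianRing H := Algebra.FiniteType.isNoetherianRing k H
  by_contra hne
  have hann : Submodule.annihilator (Submodule.span H {a}) ≠ ⊤ := by
    intro h
    rw [Ideal.eq_top_iff_one, Submodule.mem_annihilator_span_singleton, one_smul] at h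
    exact hne h
  obtain ⟨m, hm, hle⟩ := Ideal.exists_le_maximal _ hann
  obtain ⟨g, hg⟩ : ∃ g : H →ₐ[k] k, RingHom.ker g = m := by
    haveI : Module.Finite k (H ⧸ m) := by
      letI := Ideal.Quotient.field m
      exact finite_of_finite_type_of_isJacobsonRing k (H ⧸ m)
    have hb : Function.Bijective (algebraMap k (H ⧸ m)) :=
      IsAlgClosed.algebraMap_bijective_of_isIntegral
    let e := AlgEquiv.ofBijective (Algebra.ofId k (H ⧸ m)) hb
    refine ⟨e.symm.toAlgHom.comp (Ideal.Quotient.mkₐ k m), ?_⟩
    ext y
    simp [RingHom.mem_ker, Ideal.Quotient.eq_zero_iff_mem]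
  have hmem : ∀ n : ℕ, a ∈ m ^ n • (⊤ : Submodule H H) := fun n => by
    rw [smul_eq_mul, Ideal.mul_top]
    have h1 := nilpotent_mem_aug_pow (k := k) _ (ha.map (trans g)) n
    have h2 : Ideal.map (trans (Groth.Agent.Lib.Comod.Orbits.invPt g)) (aug (k := k)) ≤ m := by
      rw [Ideal.map_le_iff_le_comap]
      intro y hy
      rw [Ideal.mem_comap, ← hg, RingHom.mem_ker, ← counit_trans g, trans_apply, trans_apply, dact_dact,
        ← Groth.Agent.Lib.Comod.Orbits.mulPt_toLinearMap,
        Groth.Agent.Lib.Comod.Orbits.mulPt_invPt]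
      exact (congrArg _ (dact_counit_apply H y)).trans (mem_aug.1 hy)
    have h3 := Ideal.mem_map_of_mem (trans (Groth.Agent.Lib.Comod.Orbits.invPt g)) h1
    rw [trans_invPt, Ideal.map_pow] at h3
    exact Ideal.pow_right_mono h2 n h3
  obtain ⟨r, hr⟩ := (Ideal.mem_iInf_smul_pow_eq_bot_iff m a).1 (Submodule.mem_iInf _ |>.2 hmem)
  have : (1 : H) - r ∈ m := hle (by
    rw [Submodule.mem_annihilator_span_singleton, sub_smul, one_smul, hr, sub_self])
  exact hm.ne_top ((Ideal.eq_top_iff_one m).2 (by simpa using add_mem this r.2))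

end Hopf

end Groth.Agent.Lib.Comod.Cartier
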