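import Groth.Agent.Lib.Comod.Orbits

/-!
Closed orbits: existence and uniqueness in the fibres of the affine quotient, and orbit closures
described on rational points.
-/

universe u v w

open TensorProduct Groth.Agent.Lib.Comod.Basic Groth.Agent.Lib.Comod.Reynolds
  Groth.Agent.Lib.Comod.Alg Groth.Agent.Lib.Comod.Orbits

namespace Groth.Agent.Lib.Comod.Orbits2

set_option linter.style.haveILetI false

noncomputable section

variable {k : Type u} [Field k] [IsAlgClosed k] {A : Type v} [CommRing A] [HopfAlgebra k A]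
  [Algebra.FiniteType k A]
variable {R : Type w} [CommRing R] [Algebra k R] [HopfRep.Comod k A R] [GLin.IsCoactAlg k A R]

theorem isNilpotent_of_forall_pt {S : Type*} [CommRing S] [Algebra k S] [Algebra.FiniteType k S]
    {a : S} (h : ∀ g : S →ₐ[k] k, g a = 0) : IsNilpotent a := by
  haveI : IsJacobsonRing S := isJacobsonRing_of_finiteType (A := k)
  rw [← mem_nilradical, nilradical, Ideal.radical_eq_jacobson, Ideal.jacobson, Ideal.mem_sInf]
  rintro m ⟨-, hm⟩
  obtain ⟨g, hg⟩ := exists_pt (k := k) hm.ne_top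
  rw [hm.eq_of_le (RingHom.ker_ne_top g.toRingHom) hg]
  exact h g

/-- The closure of an orbit described by rational points. -/
theorem forall_act_iff (x z : R →ₐ[k] k) :
    (∀ f : R, (∀ g : A →ₐ[k] k, x (HopfRep.Comod.act k A R g f) = 0) → z f = 0) ↔
      orbitKer (A := A) x ≤ RingHom.ker z := by
  constructor
  · intro h f hf
    exact h f fun g => by
      rw [act_eq_dact, ← apply_orbitHom, RingHom.mem_ker.1 hf, map_zero]
  · intro h f hf
    obtain ⟨n, hn⟩ := isNilpotent_of_forall_pt (k := k) (a := GLin.orbitHom k A x f) fun g => by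
      have h1 := apply_orbitHom x g.toLinearMap f
      rw [AlgHom.toLinearMap_apply] at h1
      rw [h1]
      exact hf g
    rw [← map_pow] at hn
    have h2 : z (f ^ n) = 0 := h hn
    rw [map_pow] at h2
    exact eq_zero_of_pow_eq_zero h2

omit [IsAlgClosed k] [Algebra.FiniteType k A] in
theorem inOrbit_iff_act (x z : R →ₐ[k] k) :
    InOrbit A x z ↔ ∃ g : A →ₐ[k] k, ∀ f : R, z f = x (HopfRep.Comod.act k A R g f) := by
  refine exists_congr fun g => ⟨fun h f => ?_, fun h => AlgHom.ext fun f => ?_⟩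
  · rw [h, actPt_apply, act_eq_dact]
  · rw [h f, actPt_apply, act_eq_dact]

theorem isClosedOrbit_iff_act [Algebra.FiniteType k R] (x : R →ₐ[k] k) :
    GLin.IsClosedOrbit k A x ↔
      ∀ z : R →ₐ[k] k, (∀ f : R, (∀ g : A →ₐ[k] k, x (HopfRep.Comod.act k A R g f) = 0) → z f = 0) →
        ∃ g : A →ₐ[k] k, ∀ f : R, z f = x (HopfRep.Comod.act k A R g f) := by
  simp only [isClosedOrbit_iff, forall_act_iff, inOrbit_iff_act]

variable [Algebra.FiniteType k R]

/-- Every nonempty stable closed subset contains a closed orbit. -/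
theorem exists_isClosedOrbit_of_le {I : Ideal R}
    (hI : HopfRep.IsSubcomod (k := k) (A := A) (I.restrictScalars k)) (hne : I ≠ ⊤) :
    ∃ z : R →ₐ[k] k, I ≤ orbitKer (A := A) z ∧ GLin.IsClosedOrbit k A z := by
  haveI : IsNoetherianRing R := Algebra.FiniteType.isNoetherianRing k R
  obtain ⟨M, ⟨hM, hMne, hIM⟩, hmax⟩ := set_has_maximal_iff_noetherian.2 ‹IsNoetherianRing R›
    {J : Ideal R | HopfRep.IsSubcomod (k := k) (A := A) (J.restrictScalars k) ∧ J ≠ ⊤ ∧ I ≤ J}
    ⟨I, hI, hne, le_rfl⟩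
  have key : ∀ z : R →ₐ[k] k, M ≤ RingHom.ker z → orbitKer (A := A) z = M := by
    intro z hz
    have hle : M ≤ orbitKer (A := A) z := le_orbitKer hM hz
    refine (eq_of_le_of_not_lt hle ?_).symm
    exact hmax _ ⟨isSubcomod_orbitKer z, orbitKer_ne_top z, hIM.trans hle⟩
  obtain ⟨z, hz⟩ := exists_pt (k := k) hMne
  refine ⟨z, (key z hz).symm ▸ hIM, isClosedOrbit_of_forall fun w hw => ?_⟩
  exact inOrbit_of_orbitKer_eq ((key z hz).trans (key w (key z hz ▸ hw)).symm)

/-- A closed orbit lies in the closure of every orbit with the same invariants. -/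
theorem orbitKer_le_of_invariants_eq (hG : HopfRep.IsLinearlyReductive k A) {x y : R →ₐ[k] k}
    (hy : GLin.IsClosedOrbit k A y) (h : ∀ f ∈ HopfRep.fixedPts k A R, x f = y f) :
    orbitKer (A := A) x ≤ orbitKer (A := A) y := by
  obtain ⟨z, hxz, hyz⟩ := (invariants_eq_iff hG x y).1 h
  rw [(inOrbit_of_isClosedOrbit hy hyz).orbitKer_eq]
  exact orbitKer_le_orbitKer hxz

/-- There is at most one closed orbit in each fibre of the affine quotient. -/
theorem inOrbit_of_invariants_eq (hG : HopfRep.IsLinearlyReductive k A) {y y' : R →ₐ[k] k}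
    (hy : GLin.IsClosedOrbit k A y) (hy' : GLin.IsClosedOrbit k A y')
    (h : ∀ f ∈ HopfRep.fixedPts k A R, y f = y' f) : InOrbit A y y' :=
  inOrbit_of_isClosedOrbit hy
    ((orbitKer_le_of_invariants_eq hG hy' h).trans (orbitKer_le_ker y'))

/-- Each fibre of the affine quotient contains a closed orbit. -/
theorem exists_isClosedOrbit (x : R →ₐ[k] k) :
    ∃ y : R →ₐ[k] k, GLin.IsClosedOrbit k A y ∧ orbitKer (A := A) x ≤ orbitKer (A := A) y ∧
      ∀ f ∈ HopfRep.fixedPts k A R, y f = x f := by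
  obtain ⟨y, hxy, hy⟩ := exists_isClosedOrbit_of_le (isSubcomod_orbitKer (A := A) x) (orbitKer_ne_top x)
  exact ⟨y, hy, hxy, fun f hf => eq_on_fixedPts (hxy.trans (orbitKer_le_ker y)) hf⟩

end

end Groth.Agent.Lib.Comod.Orbits2
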