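import Groth.Agent.Lib.Comod.Reynolds
import Groth.Prelude.Def_W4c1tameactTame

/-!
Comodule algebras and equivariant modules: multiplication by invariants is a comodule map, products of
subcomodules are subcomodules, colon ideals of stable ideals are stable.
-/

universe u v w w'

open TensorProduct Groth.Agent.Lib.Comod.Basic Groth.Agent.Lib.Comod.Reynolds

namespace Groth.Agent.Lib.Comod.Alg

noncomputable section

variable {k : Type u} [CommRing k] {A : Type v} [CommRing A] [Bialgebra k A]
variable {R : Type w} [CommRing R] [Algebra k R] [HopfRep.Comod k A R]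
variable {M : Type w'} [AddCommGroup M] [Module k M] [Module R M] [IsScalarTower k R M]
  [HopfRep.Comod k A M]

omit [HopfRep.Comod k A R] in
theorem hmSMul_self (x y : R ⊗[k] A) : TameAct.hmSMul k A R R x y = x * y := by
  induction x using TensorProduct.induction_on with
  | zero => simp
  | tmul r a =>
    induction y using TensorProduct.induction_on with
    | zero => simp
    | tmul r' a' => simp [Algebra.TensorProduct.tmul_mul_tmul]
    | add x y hx hy => simp [mul_add, hx, hy]
  | add x y hx hy => simp [add_mul, hx, hy]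

variable [GLin.IsCoactAlg k A R]

instance isHopfMod_self : TameAct.IsHopfMod k A R R :=
  ⟨fun b m => by rw [smul_eq_mul, GLin.IsCoactAlg.coact_mul, hmSMul_self]⟩

theorem one_mem_fixedPts : (1 : R) ∈ HopfRep.fixedPts k A R :=
  (GLin.IsCoactAlg.coact_one (k := k) (A := A) (R := R)).trans Algebra.TensorProduct.one_def

theorem isSubcomod_one : HopfRep.IsSubcomod (k := k) (A := A) (1 : Submodule k R) := by
  intro w hw
  obtain ⟨c, rfl⟩ := Submodule.mem_one.1 hw
  refine ⟨(⟨algebraMap k R c, Submodule.mem_one.2 ⟨c, rfl⟩⟩ : (1 : Submodule k R)) ⊗ₜ[k] 1, ?_⟩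
  simp only [LinearMap.rTensor_tmul, Submodule.subtype_apply]
  exact ((GLin.invariants k A R).algebraMap_mem c).symm

variable [TameAct.IsHopfMod k A R M]

omit [GLin.IsCoactAlg k A R] in
theorem coact_smul (r : R) (m : M) : HopfRep.Comod.coact (k := k) (A := A) (r • m) =
    TameAct.hmSMul k A R M (HopfRep.Comod.coact (k := k) (A := A) r)
      (HopfRep.Comod.coact (k := k) (A := A) m) :=
  TameAct.IsHopfMod.coact_smul r m

omit [GLin.IsCoactAlg k A R] in
variable (M) in
/-- Multiplication by an invariant function is a comodule map. -/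
theorem isComodHom_smul {b : R} (hb : b ∈ HopfRep.fixedPts k A R) :
    Hoch.IsComodHom A (Algebra.lsmul k k M b) := by
  refine LinearMap.ext fun m => ?_
  simp only [LinearMap.comp_apply, Algebra.lsmul_coe]
  rw [coact_smul, show HopfRep.Comod.coact (k := k) (A := A) b = b ⊗ₜ[k] 1 from hb]
  induction HopfRep.Comod.coact (k := k) (A := A) m using TensorProduct.induction_on with
  | zero => simp
  | tmul _ _ => simp
  | add x y hx hy => simp only [map_add, hx, hy]

omit [GLin.IsCoactAlg k A R] in
/-- Multiplying a fixed vector by functions is a comodule map. -/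
theorem isComodHom_smul_fixed {m : M} (hm : m ∈ HopfRep.fixedPts k A M) :
    Hoch.IsComodHom A ((Algebra.lsmul k k M).toLinearMap.flip m : R →ₗ[k] M) := by
  refine LinearMap.ext fun r => ?_
  simp only [LinearMap.comp_apply, LinearMap.flip_apply, AlgHom.toLinearMap_apply, Algebra.lsmul_coe]
  rw [coact_smul, show HopfRep.Comod.coact (k := k) (A := A) m = m ⊗ₜ[k] 1 from hm]
  induction HopfRep.Comod.coact (k := k) (A := A) r using TensorProduct.induction_on with
  | zero => simp
  | tmul _ _ => simp
  | add x y hx hy => simp only [map_add, LinearMap.add_apply, hx, hy]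

omit [GLin.IsCoactAlg k A R] in
theorem smul_mem_fixedPts {b : R} (hb : b ∈ HopfRep.fixedPts k A R) {m : M}
    (hm : m ∈ HopfRep.fixedPts k A M) : b • m ∈ HopfRep.fixedPts k A M := by
  change HopfRep.Comod.coact (k := k) (A := A) (b • m) = (b • m) ⊗ₜ[k] (1 : A)
  rw [coact_smul, show HopfRep.Comod.coact (k := k) (A := A) b = b ⊗ₜ[k] 1 from hb,
    show HopfRep.Comod.coact (k := k) (A := A) m = m ⊗ₜ[k] 1 from hm]
  simp

omit [GLin.IsCoactAlg k A R] in
theorem coact_smul_mem {U : Submodule k R} (hU : HopfRep.IsSubcomod (k := k) (A := A) U)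
    {W : Submodule k M} (hW : HopfRep.IsSubcomod (k := k) (A := A) W) {P : Submodule k M}
    (hP : ∀ r ∈ U, ∀ m ∈ W, r • m ∈ P) {r : R} (hr : r ∈ U) {m : M} (hm : m ∈ W) :
    HopfRep.Comod.coact (k := k) (A := A) (r • m) ∈ LinearMap.range (P.subtype.rTensor A) := by
  rw [coact_smul]
  obtain ⟨x, hx⟩ := hU r hr
  obtain ⟨y, hy⟩ := hW m hm
  rw [← hx, ← hy]
  clear hx hy hr hm
  induction x using TensorProduct.induction_on with
  | zero => simp
  | tmul r a =>
    induction y using TensorProduct.induction_on with
    | zero => simp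
    | tmul m a' =>
      exact ⟨(⟨(r : R) • (m : M), hP _ r.2 _ m.2⟩ : P) ⊗ₜ[k] (a * a'), by simp⟩
    | add x y hx hy => simp only [map_add]; exact Submodule.add_mem _ hx hy
  | add x y hx hy => simp only [map_add, LinearMap.add_apply]; exact Submodule.add_mem _ hx hy

/-- The product of two subcomodules is a subcomodule. -/
theorem isSubcomod_mul {U W : Submodule k R} (hU : HopfRep.IsSubcomod (k := k) (A := A) U)
    (hW : HopfRep.IsSubcomod (k := k) (A := A) W) :
    HopfRep.IsSubcomod (k := k) (A := A) (U * W) := by
  intro x hx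
  refine Submodule.mul_induction_on hx (fun r hr m hm => ?_) fun x y hx hy => by
    rw [map_add]; exact Submodule.add_mem _ hx hy
  exact coact_smul_mem (M := R) hU hW (P := U * W)
    (fun r hr m hm => Submodule.mul_mem_mul hr hm) hr hm

theorem isSubcomod_pow {U : Submodule k R} (hU : HopfRep.IsSubcomod (k := k) (A := A) U) :
    ∀ n : ℕ, HopfRep.IsSubcomod (k := k) (A := A) (U ^ n)
  | 0 => by rw [pow_zero]; exact isSubcomod_one
  | n + 1 => by rw [pow_succ]; exact isSubcomod_mul (isSubcomod_pow hU n) hU

omit [GLin.IsCoactAlg k A R] in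
/-- The `R`-span of a stable set of generators is stable. -/
theorem isSubcomod_span {W : Submodule k M} (hW : HopfRep.IsSubcomod (k := k) (A := A) W) :
    HopfRep.IsSubcomod (k := k) (A := A) ((Submodule.span R (W : Set M)).restrictScalars k) := by
  intro x hx
  rw [Submodule.restrictScalars_mem] at hx
  induction hx using Submodule.closure_induction with
  | zero => simp
  | add x y _ _ hx hy => rw [map_add]; exact Submodule.add_mem _ hx hy
  | smul_mem r m hm =>
    exact coact_smul_mem (U := (⊤ : Submodule k R))
      (fun w _ => LinearMap.rTensor_surjective A (g := (⊤ : Submodule k R).subtype)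
        (fun x => ⟨⟨x, trivial⟩, rfl⟩) _)
      hW (fun r _ m hm => Submodule.smul_mem _ r (Submodule.subset_span hm)) Submodule.mem_top hm

omit [TameAct.IsHopfMod k A R M] in
theorem isSubcomod_idealSpan {W : Submodule k R} (hW : HopfRep.IsSubcomod (k := k) (A := A) W) :
    HopfRep.IsSubcomod (k := k) (A := A) ((Ideal.span (W : Set R)).restrictScalars k) :=
  isSubcomod_span (R := R) (M := R) hW

end

section Hopf

noncomputable section

variable {k : Type u} [CommRing k] {A : Type v} [CommRing A] [HopfAlgebra k A]

section Twist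

variable (M : Type w') [AddCommGroup M] [Module k M] [HopfRep.Comod k A M]

/-- `m ⊗ a ↦ coact m * (1 ⊗ a)`. -/
def twist : M ⊗[k] A →ₗ[k] M ⊗[k] A :=
  (LinearMap.mul' k A).lTensor M ∘ₗ (TensorProduct.assoc k M A A).toLinearMap ∘ₗ
    (HopfRep.Comod.coact (k := k) (A := A)).rTensor A

theorem twist_antipode (m : M) :
    twist M ((HopfAlgebraStruct.antipode (R := k) (A := A)).lTensor M
      (HopfRep.Comod.coact (k := k) (A := A) m)) = m ⊗ₜ[k] (1 : A) := by
  have h := LinearMap.congr_fun (HopfRep.Comod.coassoc (k := k) (A := A) (V := M)) m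
  have h' := LinearMap.congr_fun (HopfRep.Comod.counit_comp (k := k) (A := A) (V := M)) m
  simp only [LinearMap.comp_apply, LinearEquiv.coe_coe] at h h'
  simp only [twist, LinearMap.comp_apply, LinearEquiv.coe_coe]
  set S := HopfAlgebraStruct.antipode (R := k) (A := A)
  rw [← LinearMap.comp_apply ((HopfRep.Comod.coact (k := k) (A := A)).rTensor A),
    LinearMap.rTensor_comp_lTensor, ← LinearMap.lTensor_comp_rTensor, LinearMap.comp_apply]
  have e : ∀ y : (M ⊗[k] A) ⊗[k] A, TensorProduct.assoc k M A A (S.lTensor (M ⊗[k] A) y) =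
      (S.lTensor A).lTensor M (TensorProduct.assoc k M A A y) := by
    intro y
    induction y using TensorProduct.induction_on with
    | zero => simp
    | tmul x c =>
      induction x using TensorProduct.induction_on with
      | zero => simp
      | tmul _ _ => simp
      | add x y hx hy => simp only [TensorProduct.add_tmul, map_add, hx, hy]
    | add x y hx hy => simp only [map_add, hx, hy]
  rw [e, h]
  rw [← LinearMap.lTensor_comp_apply, ← LinearMap.lTensor_comp_apply, LinearMap.comp_assoc,
    HopfAlgebra.mul_antipode_lTensor_comul, LinearMap.lTensor_comp, LinearMap.comp_apply, h']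
  simp

end Twist

variable {R : Type w} [CommRing R] [Algebra k R] [HopfRep.Comod k A R]

theorem twist_tmul (r : R) (a : A) :
    twist R (r ⊗ₜ[k] a) = HopfRep.Comod.coact (k := k) (A := A) r * ((1 : R) ⊗ₜ[k] a) := by
  simp only [twist, LinearMap.comp_apply, LinearEquiv.coe_coe, LinearMap.rTensor_tmul]
  induction HopfRep.Comod.coact (k := k) (A := A) r using TensorProduct.induction_on with
  | zero => simp
  | tmul _ _ => simp
  | add x y hx hy => simp only [TensorProduct.add_tmul, map_add, hx, hy, add_mul]

variable [GLin.IsCoactAlg k A R] [Module.Free k A]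

/-- The colon ideal of two stable ideals is stable. -/
theorem isSubcomod_colon {I J : Ideal R}
    (hI : HopfRep.IsSubcomod (k := k) (A := A) (I.restrictScalars k))
    (hJ : HopfRep.IsSubcomod (k := k) (A := A) (J.restrictScalars k)) :
    HopfRep.IsSubcomod (k := k) (A := A) ((J.colon (I : Set R)).restrictScalars k) := by
  refine (isSubcomod_iff _).2 fun φ b hb => ?_
  rw [Submodule.restrictScalars_mem, Submodule.mem_colon]
  intro y hy
  rw [smul_eq_mul]
  have hb' : ∀ y ∈ I, b * y ∈ J := fun y hy => Submodule.mem_colon.1 hb y hy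
  have key : HopfRep.Comod.coact (k := k) (A := A) b * (y ⊗ₜ[k] (1 : A)) ∈
      LinearMap.range ((J.restrictScalars k).subtype.rTensor A) := by
    obtain ⟨z, hz⟩ := hI y hy
    rw [← twist_antipode, ← hz]
    clear hz
    induction z using TensorProduct.induction_on with
    | zero => simp
    | add x y hx hy => simp only [map_add, mul_add]; exact Submodule.add_mem _ hx hy
    | tmul y' a =>
      rw [LinearMap.rTensor_tmul, LinearMap.lTensor_tmul, Submodule.subtype_apply, twist_tmul,
        ← mul_assoc, ← GLin.IsCoactAlg.coact_mul]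
      obtain ⟨x, hx⟩ := hJ (b * (y' : R)) (hb' _ y'.2)
      rw [← hx]
      clear hx
      induction x using TensorProduct.induction_on with
      | zero => simp
      | add x y hx hy => simp only [map_add, add_mul]; exact Submodule.add_mem _ hx hy
      | tmul j c =>
        exact ⟨j ⊗ₜ[k] (c * HopfAlgebraStruct.antipode (R := k) a), by simp⟩
  have e : ∀ z : R ⊗[k] A, contract R φ (z * (y ⊗ₜ[k] (1 : A))) = contract R φ z * y := by
    intro z
    induction z using TensorProduct.induction_on with
    | zero => simp
    | tmul _ _ => simp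
    | add x y hx hy => simp only [map_add, add_mul, hx, hy]
  have := (mem_range_rTensor_iff _ _).1 key φ
  rw [e] at this
  exact this

end

end Hopf

end Groth.Agent.Lib.Comod.Alg
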