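import Groth.Agent.Lib.Comod.Orbits2
import Mathlib.RingTheory.Bialgebra.MonoidAlgebra
import Mathlib.RingTheory.MvPolynomial.Homogeneous

/-!
Linear coactions on polynomial rings: homogeneous components, semistable vectors and the numerical
function of a one-parameter subgroup.
-/

universe u v w

open TensorProduct LaurentPolynomial Groth.Agent.Lib.Comod.Basic Groth.Agent.Lib.Comod.Reynolds
  Groth.Agent.Lib.Comod.Alg Groth.Agent.Lib.Comod.Orbits

namespace Groth.Agent.Lib.Comod.Linear

set_option linter.style.haveILetI false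
set_option linter.unusedSectionVars false

noncomputable section

section Laurent

variable {k : Type u} [CommRing k]

theorem coeff_T_mul (m n : ℤ) (L : k[T;T⁻¹]) : (T m * L).coeff n = L.coeff (n - m) := by
  refine L.induction_on' ?_ fun j a => ?_
  · intro f g hf hg
    rw [mul_add, AddMonoidAlgebra.coeff_add, Finsupp.add_apply, hf, hg, AddMonoidAlgebra.coeff_add,
      Finsupp.add_apply]
  · rw [← single_eq_C_mul_T]
    simp only [T, AddMonoidAlgebra.single_mul_single, one_mul,
      AddMonoidAlgebra.coeff_single, Finsupp.single_apply]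
    split_ifs <;> first | rfl | omega

theorem coeff_toLaurent_nat (p : Polynomial k) (n : ℕ) :
    (Polynomial.toLaurent p).coeff (n : ℤ) = p.coeff n := by
  rw [coeff_toLaurent, ← Finsupp.embDomain_eq_mapDomain]
  exact Finsupp.embDomain_apply_self _ _ _

theorem coeff_toLaurent_neg (p : Polynomial k) {n : ℤ} (hn : n < 0) :
    (Polynomial.toLaurent p).coeff n = 0 := by
  rw [coeff_toLaurent]
  refine Finsupp.mapDomain_of_notMem_range _ _ fun ⟨a, ha⟩ => ?_
  simp at ha
  omega

theorem exists_toLaurent_iff (L : k[T;T⁻¹]) :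
    (∃ p : Polynomial k, Polynomial.toLaurent p = L) ↔ ∀ n : ℤ, n < 0 → L.coeff n = 0 := by
  refine ⟨fun ⟨p, hp⟩ n hn => hp ▸ coeff_toLaurent_neg p hn, fun h => ⟨trunc L, ?_⟩⟩
  apply AddMonoidAlgebra.ext
  ext n
  rcases lt_or_ge n 0 with hn | hn
  · rw [coeff_toLaurent_neg _ hn, h n hn]
  · obtain ⟨j, rfl⟩ := Int.eq_ofNat_of_zero_le hn
    rw [coeff_toLaurent_nat]
    rfl

end Laurent

variable {k : Type u} [Field k] {A : Type v} [CommRing A] [Bialgebra k A]
  {ι : Type w} [Fintype ι] [HopfRep.Comod k A (MvPolynomial ι k)]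
  [GLin.IsCoactAlg k A (MvPolynomial ι k)]

variable (hlin : GLin.IsLinear k A ι)
include hlin

omit [GLin.IsCoactAlg k A (MvPolynomial ι k)] in
theorem isSubcomod_degree_one :
    HopfRep.IsSubcomod (k := k) (A := A) (MvPolynomial.homogeneousSubmodule ι k 1) := by
  rw [MvPolynomial.homogeneousSubmodule_one_eq_span_X]
  refine (isSubcomod_iff _).2 fun φ w hw => ?_
  induction hw using Submodule.span_induction with
  | mem y hy =>
    obtain ⟨i, rfl⟩ := hy
    obtain ⟨m, hm⟩ := hlin i
    rw [dact_apply, hm, map_sum]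
    exact Submodule.sum_mem _ fun j _ => by
      rw [contract_tmul]
      exact Submodule.smul_mem _ _ (Submodule.subset_span ⟨j, rfl⟩)
  | zero => simp
  | add y z _ _ hy hz => rw [map_add]; exact add_mem hy hz
  | smul c y _ hy => rw [map_smul]; exact Submodule.smul_mem _ _ hy

theorem isSubcomod_homogeneous (d : ℕ) :
    HopfRep.IsSubcomod (k := k) (A := A) (MvPolynomial.homogeneousSubmodule ι k d) := by
  rw [← MvPolynomial.homogeneousSubmodule_one_pow]
  exact isSubcomod_pow (isSubcomod_degree_one hlin) d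

theorem isComodHom_homogeneousComponent (d : ℕ) :
    Hoch.IsComodHom A (MvPolynomial.homogeneousComponent d : MvPolynomial ι k →ₗ[k] MvPolynomial ι k) := by
  refine (isComodHom_iff _).2 fun φ p => ?_
  conv_lhs => rw [← MvPolynomial.sum_homogeneousComponent p]
  conv_rhs => rw [← MvPolynomial.sum_homogeneousComponent p]
  simp only [map_sum]
  refine Finset.sum_congr rfl fun j _ => ?_
  have hj := MvPolynomial.homogeneousComponent_mem j p
  rw [MvPolynomial.homogeneousComponent_of_mem (dact_mem (isSubcomod_homogeneous hlin j) φ hj),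
    MvPolynomial.homogeneousComponent_of_mem hj]
  split_ifs with h
  · rfl
  · simp

theorem homogeneousComponent_mem_invariants (d : ℕ) {p : MvPolynomial ι k}
    (hp : p ∈ GLin.invariants k A (MvPolynomial ι k)) :
    MvPolynomial.homogeneousComponent d p ∈ GLin.invariants k A (MvPolynomial ι k) :=
  map_mem_fixedPts (isComodHom_homogeneousComponent hlin d) hp

/-- The coordinates of the orbit of `v` under a one-parameter subgroup. -/
abbrev lamCoord (lam : A →ₐc[k] k[T;T⁻¹]) (v : ι → k) (i : ι) : k[T;T⁻¹] :=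
  GLin.lamOrbit k A lam (GLin.vecPt k ι v) (MvPolynomial.X i)

omit hlin in
theorem counit_lamCoord (lam : A →ₐc[k] k[T;T⁻¹]) (v : ι → k) (i : ι) :
    CoalgebraStruct.counit (R := k) (lamCoord lam v i) = v i := by
  have h : CoalgebraStruct.counit (R := k) (lamCoord lam v i) =
      CoalgebraStruct.counit (R := k) (GLin.orbitHom k A (GLin.vecPt k ι v) (MvPolynomial.X i)) :=
    CoalgHomClass.counit_comp_apply lam _
  rw [h, apply_orbitHom, dact_counit_apply]
  simp

omit hlin in
theorem exists_lamCoord_ne_zero (lam : A →ₐc[k] k[T;T⁻¹]) {v : ι → k} (hv : v ≠ 0) :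
    ∃ i, lamCoord lam v i ≠ 0 := by
  obtain ⟨i, hi⟩ := Function.ne_iff.1 hv
  exact ⟨i, fun h => hi (by simpa [h] using (counit_lamCoord lam v i).symm)⟩

omit hlin in
theorem isMu_iff (lam : A →ₐc[k] k[T;T⁻¹]) (v : ι → k) (m : ℤ) :
    GLin.IsMu k A lam v m ↔
      (∀ i n, (lamCoord lam v i).coeff n ≠ 0 → 0 ≤ n + m) ∧
        ∃ i, (lamCoord lam v i).coeff (-m) ≠ 0 := by
  constructor
  · rintro ⟨h, hh, hne⟩
    have hX : ∀ i, Polynomial.toLaurent (h (MvPolynomial.X i)) = T m * lamCoord lam v i := fun i => by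
      have := AlgHom.congr_fun hh (MvPolynomial.X i)
      simpa [GLin.shiftedOrbit] using this
    refine ⟨fun i n hn => ?_, ?_⟩
    · by_contra hlt
      refine hn ?_
      have := (exists_toLaurent_iff (T m * lamCoord lam v i)).1 ⟨_, hX i⟩ (n + m) (not_le.1 hlt)
      rwa [coeff_T_mul, add_sub_cancel_right] at this
    · by_contra hno
      push Not at hno
      refine hne (MvPolynomial.algHom_ext fun i => ?_)
      have h0 : (h (MvPolynomial.X i)).coeff 0 = 0 := by
        rw [← coeff_toLaurent_nat, hX i, coeff_T_mul]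
        simpa using hno i
      simpa [← Polynomial.coeff_zero_eq_eval_zero] using h0
  · rintro ⟨hpos, i₀, hi₀⟩
    have hex : ∀ i, ∃ p : Polynomial k, Polynomial.toLaurent p = T m * lamCoord lam v i := fun i => by
      rw [exists_toLaurent_iff]
      intro n hn
      rw [coeff_T_mul]
      by_contra hne
      have := hpos i _ hne
      omega
    choose p hp using hex
    refine ⟨MvPolynomial.aeval p, ?_, fun hz => hi₀ ?_⟩
    · refine MvPolynomial.algHom_ext fun i => ?_
      simp [GLin.shiftedOrbit, hp]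
    · have h0 := AlgHom.congr_fun hz (MvPolynomial.X i₀)
      simp only [AlgHom.comp_apply, MvPolynomial.aeval_X, ← Polynomial.coeff_zero_eq_aeval_zero] at h0
      rw [← coeff_toLaurent_nat, hp, coeff_T_mul] at h0
      simpa using h0

omit hlin in
theorem hasLimit_iff (lam : A →ₐc[k] k[T;T⁻¹]) (v : ι → k) :
    GLin.HasLimit k A lam (GLin.vecPt k ι v) ↔
      ∀ i n, (lamCoord lam v i).coeff n ≠ 0 → 0 ≤ n := by
  constructor
  · rintro ⟨h, hh⟩ i n hn
    by_contra hlt
    exact hn ((exists_toLaurent_iff (lamCoord lam v i)).1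
      ⟨h (MvPolynomial.X i), AlgHom.congr_fun hh (MvPolynomial.X i)⟩ n (not_le.1 hlt))
  · intro hpos
    have hex : ∀ i, ∃ p : Polynomial k, Polynomial.toLaurent p = lamCoord lam v i := fun i => by
      rw [exists_toLaurent_iff]
      intro n hn
      by_contra hne
      have := hpos i n hne
      omega
    choose p hp using hex
    exact ⟨MvPolynomial.aeval p, MvPolynomial.algHom_ext fun i => by simp [hp]⟩

omit hlin in
theorem isLimit_iff (lam : A →ₐc[k] k[T;T⁻¹]) (v w : ι → k) :
    GLin.IsLimit k A lam (GLin.vecPt k ι v) (GLin.vecPt k ι w) ↔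
      (∀ i n, (lamCoord lam v i).coeff n ≠ 0 → 0 ≤ n) ∧ ∀ i, (lamCoord lam v i).coeff 0 = w i := by
  constructor
  · rintro ⟨h, hh, hw⟩
    refine ⟨(hasLimit_iff lam v).1 ⟨h, hh⟩, fun i => ?_⟩
    have h1 : Polynomial.toLaurent (h (MvPolynomial.X i)) = lamCoord lam v i :=
      AlgHom.congr_fun hh (MvPolynomial.X i)
    have h2 := AlgHom.congr_fun hw (MvPolynomial.X i)
    simp only [AlgHom.comp_apply, MvPolynomial.aeval_X, ← Polynomial.coeff_zero_eq_aeval_zero] at h2
    rw [← h1, ← h2]
    exact coeff_toLaurent_nat _ 0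
  · rintro ⟨hpos, hw⟩
    obtain ⟨h, hh⟩ := (hasLimit_iff lam v).2 hpos
    refine ⟨h, hh, MvPolynomial.algHom_ext fun i => ?_⟩
    have h1 : Polynomial.toLaurent (h (MvPolynomial.X i)) = lamCoord lam v i :=
      AlgHom.congr_fun hh (MvPolynomial.X i)
    simp only [AlgHom.comp_apply, MvPolynomial.aeval_X, ← Polynomial.coeff_zero_eq_aeval_zero]
    rw [← hw i, ← h1]
    exact (coeff_toLaurent_nat _ 0).symm

omit hlin in
theorem existsUnique_isMu (lam : A →ₐc[k] k[T;T⁻¹]) {v : ι → k} (hv : v ≠ 0) :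
    ∃! m : ℤ, GLin.IsMu k A lam v m := by
  classical
  let S : Finset ℤ := Finset.univ.biUnion fun i => (lamCoord lam v i).coeff.support
  have hS : ∀ {n}, n ∈ S ↔ ∃ i, (lamCoord lam v i).coeff n ≠ 0 := fun {n} => by simp [S]
  have hne : S.Nonempty := by
    obtain ⟨i, hi⟩ := exists_lamCoord_ne_zero lam hv
    obtain ⟨n, hn⟩ : ∃ n, (lamCoord lam v i).coeff n ≠ 0 := by
      by_contra hno
      push Not at hno
      exact hi (AddMonoidAlgebra.ext (Finsupp.ext hno))
    exact ⟨n, hS.2 ⟨i, hn⟩⟩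
  refine ⟨-S.min' hne, (isMu_iff lam v _).2 ⟨fun i n hn => ?_, ?_⟩, fun m hm => ?_⟩
  · have := S.min'_le n (hS.2 ⟨i, hn⟩)
    omega
  · simpa using hS.1 (S.min'_mem hne)
  · obtain ⟨hpos, i, hi⟩ := (isMu_iff lam v m).1 hm
    have h1 := S.min'_le (-m) (hS.2 ⟨i, hi⟩)
    obtain ⟨j, hj⟩ := hS.1 (S.min'_mem hne)
    have h2 := hpos j _ hj
    omega

end

end Groth.Agent.Lib.Comod.Linear
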